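import Mathlib

/-!
A lower bound for the dimension of the centraliser of an endomorphism annihilated by a product of linear factors.
-/

set_option autoImplicit false

namespace Cfsg.Agent.Lib.ExtEigen

open Module

variable {K V : Type*} [Field K] [AddCommGroup V] [Module K V] [FiniteDimensional K V]

/-- The endomorphisms commuting with `g`. -/
def commutant (g : Module.End K V) : Submodule K (Module.End K V) :=
  LinearMap.ker (LinearMap.mulLeft K g - LinearMap.mulRight K g)

omit [FiniteDimensional K V] in
theorem mem_commutant {g ψ : Module.End K V} : ψ ∈ commutant g ↔ g * ψ = ψ * g := by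
  simp [commutant, sub_eq_zero]

omit [FiniteDimensional K V] in
theorem mapsTo_range {g N : Module.End K V} (h : g * N = N * g) :
    ∀ u ∈ LinearMap.range N, g u ∈ LinearMap.range N := by
  rintro _ ⟨v, rfl⟩
  exact ⟨g v, (LinearMap.congr_fun h v).symm⟩

/-- One step: the centraliser contains `Hom(V / N V, ker N)` and restricts onto the centraliser on `N V`. -/
theorem commutant_step (g : Module.End K V) (μ : K)
    (hgN : g * (g - μ • 1) = (g - μ • 1) * g) :
    finrank K (LinearMap.ker (g - μ • 1)) ^ 2 +
      finrank K (commutant (g.restrict (mapsTo_range hgN))) ≤ finrank K (commutant g) := by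
  classical
  set N := g - μ • 1 with hN
  set V' := LinearMap.range N with hV'
  set g' : Module.End K V' := g.restrict (mapsTo_range hgN) with hg'
  have hcomN : ∀ ψ : Module.End K V, ψ ∈ commutant g ↔ N * ψ = ψ * N := by
    intro ψ
    rw [mem_commutant, hN, sub_mul, mul_sub, smul_mul_assoc, mul_smul_comm, one_mul, mul_one, sub_left_inj]
  have hpres : ∀ ψ ∈ commutant g, ∀ u ∈ V', ψ u ∈ V' := by
    rintro ψ hψ _ ⟨v, rfl⟩
    exact ⟨ψ v, LinearMap.congr_fun ((hcomN ψ).mp hψ) v⟩
  let Φ : commutant g →ₗ[K] Module.End K V' :=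
    { toFun := fun ψ => (ψ : Module.End K V).restrict (hpres ψ ψ.2)
      map_add' := fun _ _ => rfl
      map_smul' := fun _ _ => rfl }
  -- kernel
  let J : ((V ⧸ V') →ₗ[K] LinearMap.ker N) →ₗ[K] Module.End K V :=
    { toFun := fun X => (LinearMap.ker N).subtype ∘ₗ X ∘ₗ V'.mkQ
      map_add' := fun _ _ => rfl
      map_smul' := fun _ _ => rfl }
  have hJ0 : ∀ X, ∀ u ∈ V', J X u = 0 := by
    intro X u hu
    show ((X (Submodule.Quotient.mk u)) : V) = 0
    rw [(Submodule.Quotient.mk_eq_zero V').mpr hu, map_zero, Submodule.coe_zero]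
  have hJC : ∀ X, J X ∈ commutant g := by
    intro X
    rw [hcomN]
    refine LinearMap.ext fun v => ?_
    have h1 : N (J X v) = 0 := (X (Submodule.Quotient.mk v)).2
    simp only [Module.End.mul_apply, h1, hJ0 X (N v) ⟨v, rfl⟩]
  let J' : ((V ⧸ V') →ₗ[K] LinearMap.ker N) →ₗ[K] LinearMap.ker Φ :=
    LinearMap.codRestrict (LinearMap.ker Φ) (LinearMap.codRestrict (commutant g) J hJC) (fun X =>
      LinearMap.ext fun u => Subtype.ext (hJ0 X u u.2))
  have hJinj : Function.Injective J' := by
    intro X Y h
    refine LinearMap.ext fun q => ?_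
    induction q using Submodule.Quotient.induction_on with
    | _ v =>
      have := LinearMap.congr_fun (congrArg (fun z : LinearMap.ker Φ => ((z : commutant g) : Module.End K V)) h) v
      exact Subtype.ext this
  have hquot : finrank K (V ⧸ V') = finrank K (LinearMap.ker N) := by
    have h1 := Submodule.finrank_quotient_add_finrank V'
    have h2 := LinearMap.finrank_range_add_finrank_ker N
    rw [← hV'] at h2
    omega
  have hker : finrank K (LinearMap.ker N) ^ 2 ≤ finrank K (LinearMap.ker Φ) := by
    have h := LinearMap.finrank_le_finrank_of_injective hJinj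
    rwa [Module.finrank_linearMap, hquot, ← sq] at h
  -- range
  have hrange : commutant g' ≤ LinearMap.range Φ := by
    intro φ hφ
    rw [mem_commutant] at hφ
    obtain ⟨s, hs⟩ := N.rangeRestrict.exists_rightInverse_of_surjective N.range_rangeRestrict
    obtain ⟨π, hπ⟩ := V'.subtype.exists_leftInverse_of_injective V'.ker_subtype
    let ψ0 : Module.End K V := s ∘ₗ φ ∘ₗ N.rangeRestrict
    have hψ0 : ∀ v, N (ψ0 v) = (φ ⟨N v, v, rfl⟩ : V) := fun v =>
      congrArg Subtype.val (LinearMap.congr_fun hs (φ (N.rangeRestrict v)))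
    let ψ : Module.End K V := ψ0 + ((V'.subtype ∘ₗ φ - ψ0 ∘ₗ V'.subtype) ∘ₗ π)
    have hψu : ∀ u : V', ψ u = (φ u : V) := by
      intro u
      have hu : π (u : V) = u := LinearMap.congr_fun hπ u
      simp [ψ, hu]
    have hφN : ∀ u : V', N (φ u : V) = (φ ⟨N u, u, rfl⟩ : V) := by
      intro u
      have h1 : g (φ u : V) = (φ (g' u) : V) := congrArg Subtype.val (LinearMap.congr_fun hφ u)
      have h2 : (⟨N u, u, rfl⟩ : V') = g' u - μ • u := Subtype.ext (by simp [hN, hg'])
      rw [h2, map_sub, map_smul]
      simp [hN, h1]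
    have hψN : ψ ∈ commutant g := by
      rw [hcomN]
      refine LinearMap.ext fun v => ?_
      have h1 : ψ (N v) = (φ ⟨N v, v, rfl⟩ : V) := hψu ⟨N v, v, rfl⟩
      simp only [Module.End.mul_apply, h1]
      simp only [ψ, LinearMap.add_apply, LinearMap.comp_apply, LinearMap.sub_apply, map_add, map_sub,
        Submodule.coe_subtype, hψ0, hφN, sub_self, add_zero]
    exact ⟨⟨ψ, hψN⟩, LinearMap.ext fun u => Subtype.ext (hψu u)⟩
  have := LinearMap.finrank_range_add_finrank_ker Φ
  have h5 := Submodule.finrank_mono hrange
  exact (Nat.add_le_add hker h5).trans (by omega)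

omit [FiniteDimensional K V] in
/-- The remaining factors kill the image of the first. -/
theorem restrict_prod_eq_zero (g : Module.End K V) (c : K) (hgN : g * (g - c • 1) = (g - c • 1) * g) (L : List K)
    (h : (g - c • 1) * (L.map fun ν => g - ν • 1).prod = 0) :
    (L.map fun ν => g.restrict (mapsTo_range hgN) - ν • 1).prod = 0 := by
  have hcoe : ∀ (L : List K) (u : LinearMap.range (g - c • 1)),
      (((L.map fun ν => g.restrict (mapsTo_range hgN) - ν • 1).prod u :
        LinearMap.range (g - c • 1)) : V) = (L.map fun ν => g - ν • 1).prod (u : V) := by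
    intro L
    induction L with
    | nil => intro u; simp
    | cons ν L ih2 =>
      intro u
      simp only [List.map_cons, List.prod_cons, Module.End.mul_apply]
      simp [ih2]
  have hc : Commute (g - c • 1) (L.map fun ν => g - ν • 1).prod := by
    refine Commute.list_prod_right _ _ fun x hx => ?_
    obtain ⟨ν, -, rfl⟩ := List.mem_map.mp hx
    exact ((Commute.refl g).sub_right ((Commute.one_right g).smul_right ν)).sub_left
      (((Commute.one_left g).smul_left c).sub_right
        (((Commute.refl (1 : Module.End K V)).smul_left c).smul_right ν))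
  refine LinearMap.ext fun ⟨u, v, hv⟩ => Subtype.ext ?_
  rw [hcoe]
  subst hv
  have h1 := LinearMap.congr_fun h v
  rw [hc.eq] at h1
  simpa using h1

/-- If `k` linear factors kill `g`, the centraliser has dimension at least `n ^ 2 / k`. -/
theorem sq_finrank_le : ∀ (L : List K) (V : Type _) [AddCommGroup V] [Module K V] [FiniteDimensional K V]
    (g : Module.End K V), (L.map fun μ => g - μ • 1).prod = 0 →
      finrank K V ^ 2 ≤ L.length * finrank K (commutant g) := by
  intro L
  induction L with
  | nil =>
    intro V _ _ _ g h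
    have hs : Subsingleton V := ⟨fun a b => by
      simp only [List.map_nil, List.prod_nil] at h
      have ha := LinearMap.congr_fun h a
      have hb := LinearMap.congr_fun h b
      simpa using ha.trans hb.symm⟩
    simp [Module.finrank_zero_of_subsingleton]
  | cons μ L ih =>
    intro V _ _ _ g h
    have hgN : g * (g - μ • 1) = (g - μ • 1) * g := by
      rw [mul_sub, sub_mul, mul_smul_comm, smul_mul_assoc, one_mul, mul_one]
    rw [List.map_cons, List.prod_cons] at h
    have hrest := restrict_prod_eq_zero g μ hgN L h
    have h1 := commutant_step g μ hgN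
    have h2 := ih (LinearMap.range (g - μ • 1)) _ hrest
    have h3 := LinearMap.finrank_range_add_finrank_ker (g - μ • 1)
    simp only [List.length_cons]
    set a := finrank K (LinearMap.range (g - μ • 1))
    set d := finrank K (LinearMap.ker (g - μ • 1))
    set k := L.length
    rw [← h3]
    rcases Nat.eq_zero_or_pos k with hk | hk
    · simp only [hk, zero_mul, Nat.le_zero, pow_eq_zero_iff two_ne_zero] at h2
      rw [h2, hk]
      simp only [zero_add, one_mul]
      omega
    · have h4 : k * (a + d) ^ 2 ≤ (k + 1) * (k * d ^ 2 + a ^ 2) := by nlinarith [two_mul_le_add_sq (k * d : ℤ) (a : ℤ)]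
      refine Nat.le_of_mul_le_mul_left (h4.trans ?_) hk
      nlinarith [Nat.mul_le_mul_left (k + 1) h2, Nat.mul_le_mul_left ((k + 1) * k) h1]

/-- For `g ^ e = 1`, the centraliser bounds every eigenspace of `g`. -/
theorem eigen_sq_le [IsAlgClosed K] (g : Module.End K V) {e : ℕ} (he : 0 < e) (hg : g ^ e = 1) {c : K}
    (hc : c ^ e = 1) {d n : ℕ} (hd : d = finrank K (Module.End.eigenspace g c)) (hn : n = finrank K V) :
    (e - 1) * d ^ 2 + (n - d) ^ 2 ≤ (e - 1) * finrank K (commutant g) := by
  classical
  let P : Polynomial K := Polynomial.X ^ e - Polynomial.C 1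
  have hP : P.Monic := Polynomial.monic_X_pow_sub_C 1 he.ne'
  have hcard : Multiset.card P.roots = P.natDegree := IsAlgClosed.card_roots_eq_natDegree
  have hcP : c ∈ P.roots := by
    rw [Polynomial.mem_roots hP.ne_zero]
    simp [P, hc]
  obtain ⟨M, hM⟩ := Multiset.exists_cons_of_mem hcP
  have hlen : M.toList.length = e - 1 := by
    rw [hM, Multiset.card_cons, Polynomial.natDegree_X_pow_sub_C] at hcard
    rw [Multiset.length_toList]
    omega
  have hprod := Polynomial.prod_multiset_X_sub_C_of_monic_of_roots_card_eq hP hcard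
  rw [hM, ← Multiset.coe_toList M, Multiset.cons_coe, Multiset.map_coe, Multiset.prod_coe] at hprod
  have h0 := congrArg (Polynomial.aeval g) hprod
  rw [map_list_prod, List.map_map, List.map_cons, List.prod_cons] at h0
  simp only [P, Function.comp_def, map_sub, Polynomial.aeval_X, Polynomial.aeval_C, map_pow, hg,
    Algebra.algebraMap_eq_smul_one, one_smul, sub_self] at h0
  have hgN : g * (g - c • 1) = (g - c • 1) * g := by
    rw [mul_sub, sub_mul, mul_smul_comm, smul_mul_assoc, one_mul, mul_one]
  have hrest := restrict_prod_eq_zero g c hgN M.toList h0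
  have h1 := commutant_step g c hgN
  have h2 := sq_finrank_le M.toList _ _ hrest
  have h3 := LinearMap.finrank_range_add_finrank_ker (g - c • 1)
  rw [Module.End.eigenspace_def] at hd
  rw [hlen] at h2
  subst hd
  rw [show n - finrank K (LinearMap.ker (g - c • 1)) = finrank K (LinearMap.range (g - c • 1)) by omega]
  nlinarith [Nat.mul_le_mul_left (e - 1) h1]

end Cfsg.Agent.Lib.ExtEigen
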