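import Cfsg.Agent.Lib.ExtEigen.Basic
import Cfsg.Agent.Lib.ExtEigen.Centralizer

/-!
An element of prime order normalising the group permutes the basis of representatives monomially.
-/

set_option autoImplicit false
set_option linter.unusedSectionVars false
set_option linter.style.haveILetI false

namespace Cfsg.Agent.Lib.ExtEigen

open Module

variable {K V : Type*} [Field K] [AddCommGroup V] [Module K V] [FiniteDimensional K V]
variable {G : Type*} [Group G] [Finite G] {r ϖ : ℕ} {ρ : G →* Module.End K V} {g : Module.End K V}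

/-- `g` has prime order, normalises the image with scalars and does not centralise it. -/
structure Normal (ϖ : ℕ) (ρ : G →* Module.End K V) (g : Module.End K V) : Prop where
  prime : ϖ.Prime
  pow_eq : g ^ ϖ = 1
  norm : ∀ x : G, ∃ (y : G) (a : K), g * ρ x = (a • ρ y) * g
  moves : ∃ x : G, ¬ Commute g (ρ x)

local notation "Quo" => G ⧸ Subgroup.center G

variable (h : Data r ρ) (hg : Normal ϖ ρ g)
include h hg

theorem isUnit_g : IsUnit g := IsUnit.of_pow_eq_one hg.pow_eq hg.prime.ne_zero

theorem exists_image (q : Quo) : ∃ (q' : Quo) (a : K), a ≠ 0 ∧ g * rep ρ q = (a • rep ρ q') * g := by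
  obtain ⟨y, a, hy⟩ := hg.norm (Quotient.out q)
  obtain ⟨b, hb, hyb⟩ := exists_smul_rep h y
  refine ⟨(y : Quo), a * b, ?_, ?_⟩
  · refine mul_ne_zero (fun h0 => ?_) hb
    rw [h0, zero_smul, zero_mul] at hy
    haveI := h.nontrivial
    exact ((isUnit_g h hg).mul (isUnit_rho h _)).ne_zero hy
  · rw [rep, hy, hyb, smul_smul]

/-- The permutation of the basis. -/
noncomputable def img (q : Quo) : Quo := (exists_image h hg q).choose

/-- The multipliers. -/
noncomputable def mult (q : Quo) : K := (exists_image h hg q).choose_spec.choose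

theorem mult_ne_zero (q : Quo) : mult h hg q ≠ 0 := (exists_image h hg q).choose_spec.choose_spec.1

theorem conj_rep (q : Quo) : g * rep ρ q = (mult h hg q • rep ρ (img h hg q)) * g :=
  (exists_image h hg q).choose_spec.choose_spec.2

theorem image_unique {q q' : Quo} {a : K} (he : g * rep ρ q = (a • rep ρ q') * g) : img h hg q = q' ∧ mult h hg q = a := by
  have h1 := (isUnit_g h hg).mul_left_inj.mp ((conj_rep h hg q).symm.trans he)
  have h2 := eq_of_smul_rep h (mult_ne_zero h hg q) h1
  refine ⟨h2, ?_⟩
  rw [h2] at h1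
  exact smul_left_injective K (rep_ne_zero h q') h1

theorem img_injective : Function.Injective (img h hg) := by
  intro q q' he
  refine eq_of_smul_rep h (mult_ne_zero h hg q') (b := mult h hg q) ((isUnit_g h hg).mul_right_inj.mp ?_)
  rw [mul_smul_comm, mul_smul_comm, conj_rep h hg q, conj_rep h hg q', he, smul_mul_assoc, smul_mul_assoc,
    smul_smul, smul_smul, mul_comm]

theorem img_mul (q q' : Quo) : img h hg (q * q') = img h hg q * img h hg q' := by
  obtain ⟨a, ha, h1⟩ := rep_mul h q q'
  obtain ⟨b, -, h2⟩ := rep_mul h (img h hg q) (img h hg q')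
  refine (image_unique h hg (a := a⁻¹ * (mult h hg q * mult h hg q' * b)) ?_).1
  have h3 : g * (rep ρ q * rep ρ q') = (mult h hg q * mult h hg q' * b) • (rep ρ (img h hg q * img h hg q') * g) := by
    rw [← mul_assoc, conj_rep h hg q, mul_assoc, conj_rep h hg q', ← mul_assoc, smul_mul_smul_comm, h2, smul_smul,
      smul_mul_assoc]
  rw [h1, mul_smul_comm] at h3
  rw [smul_mul_assoc, ← smul_smul, ← h3, smul_smul, inv_mul_cancel₀ ha, one_smul]

/-- The induced automorphism. -/
noncomputable def imgHom : Quo →* Quo := MonoidHom.mk' (img h hg) (img_mul h hg)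

theorem img_one : img h hg 1 = 1 := (imgHom h hg).map_one

theorem conj_pow (k : ℕ) (q : Quo) :
    ∃ a : K, g ^ k * rep ρ q = (a • rep ρ ((img h hg)^[k] q)) * g ^ k ∧ (img h hg q = q → a = mult h hg q ^ k) := by
  induction k with
  | zero => exact ⟨1, by simp, fun _ => by simp⟩
  | succ k ih =>
    obtain ⟨a, ha, ha'⟩ := ih
    refine ⟨a * mult h hg ((img h hg)^[k] q), ?_, fun he => ?_⟩
    · rw [pow_succ' g, mul_assoc, ha, ← mul_assoc, mul_smul_comm, conj_rep h hg, smul_mul_assoc, smul_mul_assoc,
        smul_mul_assoc, smul_mul_assoc, smul_smul, Function.iterate_succ_apply', mul_assoc]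
    · rw [Function.iterate_fixed he, ha' he, pow_succ]

theorem img_iterate (q : Quo) : (img h hg)^[ϖ] q = q := by
  obtain ⟨a, ha, -⟩ := conj_pow h hg ϖ q
  rw [hg.pow_eq, one_mul, mul_one] at ha
  exact (eq_of_smul_rep h one_ne_zero (by rw [one_smul]; exact ha)).symm

/-- A fixed point with `ϖ ≠ r` is centralised. -/
theorem mult_eq_one (hne : ϖ ≠ r) {q : Quo} (hq : img h hg q = q) : mult h hg q = 1 := by
  set a := mult h hg q
  have h1 : a ^ ϖ = 1 := by
    obtain ⟨b, hb, hb'⟩ := conj_pow h hg ϖ q
    rw [hg.pow_eq, one_mul, mul_one, Function.iterate_fixed hq, hb' hq] at hb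
    exact (smul_left_injective K (rep_ne_zero h q)
      (show (1 : K) • rep ρ q = a ^ ϖ • rep ρ q by rw [one_smul]; exact hb)).symm
  have hk : ∀ k : ℕ, g * rep ρ q ^ k = (a ^ k • rep ρ q ^ k) * g := by
    intro k
    induction k with
    | zero => simp
    | succ k ih =>
      rw [pow_succ, ← mul_assoc, ih, mul_assoc, conj_rep h hg q, hq, ← mul_assoc, smul_mul_smul_comm, pow_succ a]
  have h2 : a ^ r = 1 := by
    obtain ⟨c, hc, hr⟩ := rep_pow_r h q
    have h3 := hk r
    rw [hr, mul_smul_comm, mul_one, smul_smul, smul_mul_assoc, one_mul] at h3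
    haveI := h.nontrivial
    refine (mul_eq_right₀ hc).mp ((smul_left_injective K (isUnit_g h hg).ne_zero h3).symm)
  have hd : orderOf a ∣ Nat.gcd ϖ r := Nat.dvd_gcd (orderOf_dvd_of_pow_eq_one h1) (orderOf_dvd_of_pow_eq_one h2)
  rw [(Nat.coprime_primes hg.prime h.prime).mpr hne, Nat.dvd_one] at hd
  exact orderOf_eq_one_iff.mp hd

/-- The centralised representatives. -/
noncomputable def fixedGroup : Subgroup Quo :=
  { carrier := {q | Commute g (rep ρ q)}
    one_mem' := by
      have := hg.prime
      obtain ⟨a, -, ha⟩ := rep_one h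
      show Commute _ _
      rw [ha]; exact (Commute.one_right g).smul_right a
    mul_mem' := fun {a b} ha hb => by
      obtain ⟨c, hc, hab⟩ := rep_mul h a b
      have := ((ha : Commute g _).mul_right (hb : Commute g _)).smul_right c⁻¹
      rwa [hab, smul_smul, inv_mul_cancel₀ hc, one_smul] at this
    inv_mem' := fun {a} ha => by
      have hpow : ∀ k : ℕ, Commute g (rep ρ (a ^ k)) := by
        intro k
        induction k with
        | zero =>
          obtain ⟨c, -, hc⟩ := rep_one h
          rw [pow_zero, hc]; exact (Commute.one_right g).smul_right c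
        | succ k ih =>
          obtain ⟨c, hc, hab⟩ := rep_mul h (a ^ k) a
          have := (ih.mul_right (ha : Commute g _)).smul_right c⁻¹
          rwa [hab, smul_smul, inv_mul_cancel₀ hc, one_smul, ← pow_succ] at this
      have h1 : a⁻¹ = a ^ (r - 1) := inv_eq_of_mul_eq_one_right (by
        rw [← pow_succ', Nat.sub_add_cancel h.prime.pos, quo_pow_r h])
      show Commute _ _
      rw [h1]; exact hpow _ }

theorem mem_fixedGroup {q : Quo} : q ∈ fixedGroup h hg ↔ Commute g (rep ρ q) := Iff.rfl

theorem mem_fixedGroup_iff {q : Quo} : q ∈ fixedGroup h hg ↔ img h hg q = q ∧ mult h hg q = 1 := by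
  rw [mem_fixedGroup]
  constructor
  · exact fun hc => image_unique h hg (by rw [one_smul]; exact hc)
  · rintro ⟨h1, h2⟩
    have := conj_rep h hg q
    rwa [h1, h2, one_smul] at this

theorem fixedGroup_ne_top : fixedGroup h hg ≠ ⊤ := by
  intro hc
  obtain ⟨x, hx⟩ := hg.moves
  obtain ⟨a, -, ha⟩ := exists_smul_rep h x
  refine hx ?_
  rw [ha]
  exact ((mem_fixedGroup h hg).mp (hc ▸ Subgroup.mem_top _)).smul_right a

/-- The coefficient relation of the centraliser. -/
theorem coeff_relation [Fintype Quo] {a : Quo → K} (hc : g * (∑ q, a q • rep ρ q) = (∑ q, a q • rep ρ q) * g)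
    (q : Quo) : a (img h hg q) = mult h hg q * a q := by
  classical
  have hbij : Function.Bijective (img h hg) := Finite.injective_iff_bijective.mp (img_injective h hg)
  have h1 : (∑ q, (mult h hg q * a q) • rep ρ (img h hg q)) * g = (∑ q, a (img h hg q) • rep ρ (img h hg q)) * g := by
    rw [hbij.sum_comp (fun q => a q • rep ρ q), ← hc, Finset.mul_sum, Finset.sum_mul]
    refine Finset.sum_congr rfl fun q _ => ?_
    rw [mul_smul_comm, conj_rep h hg q, smul_mul_assoc, smul_mul_assoc, smul_smul, mul_comm]
  have h2 := (isUnit_g h hg).mul_left_inj.mp h1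
  have hli := (linearIndependent_rep h).comp _ hbij.1
  have h3 := Fintype.linearIndependent_iff.mp hli (fun q => mult h hg q * a q - a (img h hg q))
    (by simp only [sub_smul, Finset.sum_sub_distrib, Function.comp_apply, h2, sub_self]) q
  exact (sub_eq_zero.mp h3).symm

/-- The centraliser is small. -/
theorem commutant_bound :
    ϖ * finrank K (commutant g) ≤ finrank K V ^ 2 + (ϖ - 1) * Nat.card (fixedGroup h hg) := by
  classical
  haveI := Fintype.ofFinite Quo
  let D : Finset Quo → Submodule K (Quo → K) := fun S =>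
    { carrier := {a | (∀ q, q ∉ S → a q = 0) ∧ ∀ q, a (img h hg q) = mult h hg q * a q}
      add_mem' := fun {a b} ha hb => ⟨fun q hq => by simp [ha.1 q hq, hb.1 q hq],
        fun q => by simp [ha.2 q, hb.2 q, mul_add]⟩
      zero_mem' := ⟨fun _ _ => rfl, fun _ => by simp⟩
      smul_mem' := fun c a ha => ⟨fun q hq => by simp [ha.1 q hq],
        fun q => by simp [ha.2 q, mul_left_comm]⟩ }
  have hmoved : ∀ S : Finset Quo, (∀ q ∈ S, img h hg q ≠ q ∧ img h hg q ∈ S) → ϖ * finrank K (D S) ≤ S.card := by
    intro S
    induction S using Finset.strongInduction with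
    | H S ih =>
      intro hS
      rcases S.eq_empty_or_nonempty with rfl | ⟨q, hq⟩
      · have : D ∅ = ⊥ := by
          rw [eq_bot_iff]
          exact fun a ha => (Submodule.mem_bot K).mpr (funext fun z => ha.1 z (Finset.notMem_empty z))
        simp [this]
      set O := (Finset.range ϖ).image fun k => (img h hg)^[k] q with hO
      have hmem : ∀ k, (img h hg)^[k] q ∈ S := by
        intro k
        induction k with
        | zero => exact hq
        | succ k ihk => rw [Function.iterate_succ_apply']; exact (hS _ ihk).2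
      have hmin : Function.minimalPeriod (img h hg) q = ϖ := by
        rcases hg.prime.eq_one_or_self_of_dvd _
          (Function.IsPeriodicPt.minimalPeriod_dvd (img_iterate h hg q)) with h1 | h1
        · exact absurd (Function.minimalPeriod_eq_one_iff_isFixedPt.mp h1) (hS q hq).1
        · exact h1
      have hOcard : O.card = ϖ := by
        rw [hO, Finset.card_image_of_injOn, Finset.card_range]
        intro i hi j hj hij
        refine Function.iterate_injOn_Iio_minimalPeriod (f := img h hg) (x := q) ?_ ?_ hij <;>
          simp_all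
      have hOS : O ⊆ S := by
        intro z hz
        obtain ⟨k, -, rfl⟩ := Finset.mem_image.mp hz
        exact hmem k
      have hOinv : ∀ z, img h hg z ∈ O → z ∈ O := by
        intro z hz
        obtain ⟨k, -, hk⟩ := Finset.mem_image.mp hz
        refine Finset.mem_image.mpr ⟨(k + (ϖ - 1)) % ϖ, Finset.mem_range.mpr (Nat.mod_lt _ hg.prime.pos), ?_⟩
        refine img_injective h hg ?_
        have hit : ∀ i, (img h hg)^[i] q = (img h hg)^[i % ϖ] q := fun i => by
          conv_rhs => rw [show i % ϖ = i % Function.minimalPeriod (img h hg) q by rw [hmin]]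
          rw [Function.iterate_mod_minimalPeriod_eq]
        rw [← hk, ← Function.iterate_succ_apply' (img h hg), Nat.succ_eq_add_one, hit, Nat.mod_add_mod,
          show k + (ϖ - 1) + 1 = k + ϖ by have := hg.prime.pos; omega, Nat.add_mod_right, ← hit]
      have hsub := ih (S \ O) (Finset.sdiff_ssubset hOS ⟨q, Finset.mem_image.mpr ⟨0, by simp [hg.prime.pos], rfl⟩⟩)
        fun z hz => by
          rw [Finset.mem_sdiff] at hz ⊢
          exact ⟨(hS z hz.1).1, (hS z hz.1).2, fun hh => hz.2 (hOinv z hh)⟩
      let ev : D S →ₗ[K] K := (LinearMap.proj q).comp (D S).subtype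
      have hker : LinearMap.ker ev ≤ (D (S \ O)).comap (D S).subtype := by
        intro a ha
        refine ⟨fun z hz => ?_, a.2.2⟩
        by_cases hzS : z ∈ S
        · have hzO : z ∈ O := by simpa [hzS] using hz
          obtain ⟨k, -, rfl⟩ := Finset.mem_image.mp hzO
          show (a : Quo → K) _ = 0
          clear hz hzS hzO
          induction k with
          | zero => exact ha
          | succ k ihk => rw [Function.iterate_succ_apply', a.2.2, ihk, mul_zero]
        · exact a.2.1 z hzS
      have h1 : finrank K (LinearMap.ker ev) ≤ finrank K (D (S \ O)) := by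
        refine LinearMap.finrank_le_finrank_of_injective
          (f := LinearMap.codRestrict (D (S \ O)) ((D S).subtype.comp (LinearMap.ker ev).subtype) fun a => hker a.2) ?_
        intro a b hab
        have := congrArg Subtype.val hab
        exact Subtype.ext (Subtype.ext this)
      have h2 := LinearMap.finrank_range_add_finrank_ker ev
      have h3 : finrank K (LinearMap.range ev) ≤ 1 := (Submodule.finrank_le _).trans (Module.finrank_self K).le
      have h4 : (S \ O).card + ϖ = S.card := by
        rw [← hOcard]; exact Finset.card_sdiff_add_card_eq_card hOS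
      have h5 : ϖ * finrank K (D S) ≤ ϖ * (1 + finrank K (D (S \ O))) := Nat.mul_le_mul_left _ (by omega)
      rw [Nat.mul_add, Nat.mul_one] at h5
      omega
  set M : Finset Quo := Finset.univ.filter fun q => img h hg q ≠ q with hM
  set P : Finset Quo := Finset.univ.filter fun q => q ∈ fixedGroup h hg with hP
  let toM : (Quo → K) →ₗ[K] Module.End K V := Fintype.linearCombination K (rep ρ)
  have hC : finrank K (commutant g) ≤ finrank K (D Finset.univ) := by
    have hle : commutant g ≤ (D Finset.univ).map toM := by
      intro ψ hψ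
      obtain ⟨a, rfl⟩ := exists_coeff h ψ
      exact ⟨a, ⟨fun q hq => absurd (Finset.mem_univ q) hq, coeff_relation h hg (mem_commutant.mp hψ)⟩, rfl⟩
    exact (Submodule.finrank_mono hle).trans (Submodule.finrank_map_le _ _)
  have hall : finrank K (D Finset.univ) ≤ P.card + finrank K (D M) := by
    let ev : D Finset.univ →ₗ[K] (P → K) := (LinearMap.funLeft K K Subtype.val).comp (D Finset.univ).subtype
    have hker : LinearMap.ker ev ≤ (D M).comap (D Finset.univ).subtype := by
      intro a ha
      refine ⟨fun z hz => ?_, a.2.2⟩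
      have hfix : img h hg z = z := by simpa [hM] using hz
      show (a : Quo → K) z = 0
      by_cases hz1 : mult h hg z = 1
      · exact congrFun (LinearMap.mem_ker.mp ha) ⟨z, by simp [hP, mem_fixedGroup_iff, hfix, hz1]⟩
      · have := a.2.2 z
        rw [hfix] at this
        by_contra hne
        exact hz1 ((mul_eq_right₀ hne).mp this.symm)
    have h1 : finrank K (LinearMap.ker ev) ≤ finrank K (D M) := by
      refine LinearMap.finrank_le_finrank_of_injective
        (f := LinearMap.codRestrict (D M) ((D Finset.univ).subtype.comp (LinearMap.ker ev).subtype) fun a => hker a.2) ?_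
      intro a b hab
      have := congrArg Subtype.val hab
      exact Subtype.ext (Subtype.ext this)
    have h2 := LinearMap.finrank_range_add_finrank_ker ev
    have h3 : finrank K (LinearMap.range ev) ≤ P.card :=
      (Submodule.finrank_le _).trans (by rw [Module.finrank_pi, Fintype.card_coe])
    omega
  have hMb := hmoved M fun q hq => by
    simp only [hM, Finset.mem_filter, Finset.mem_univ, true_and] at hq ⊢
    exact ⟨hq, fun hh => hq (img_injective h hg hh)⟩
  have hMP : M.card + P.card ≤ finrank K V ^ 2 := by
    rw [← card_quo h, ← Finset.card_union_of_disjoint, Nat.card_eq_fintype_card]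
    · exact Finset.card_le_univ _
    · rw [Finset.disjoint_left]
      intro q hq hq'
      simp only [hM, hP, Finset.mem_filter, Finset.mem_univ, true_and] at hq hq'
      exact hq ((mem_fixedGroup_iff h hg).mp hq').1
  have hPc : Nat.card (fixedGroup h hg) = P.card := by
    rw [Nat.card_eq_fintype_card, hP, Fintype.card_subtype]
  rw [hPc]
  obtain ⟨w, hw⟩ : ∃ w, ϖ = w + 1 := ⟨ϖ - 1, by have := hg.prime.pos; omega⟩
  rw [hw] at hMb ⊢
  rw [Nat.add_sub_cancel]
  have := Nat.mul_le_mul_left (w + 1) (hC.trans hall)
  nlinarith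

/-- The basic estimate on an eigenspace. -/
theorem eigen_estimate [IsAlgClosed K] {c : K} (hc : c ^ ϖ = 1) :
    ((ϖ : ℤ) * finrank K (Module.End.eigenspace g c) - finrank K V) ^ 2 ≤
      ((ϖ : ℤ) - 1) ^ 2 * Nat.card (fixedGroup h hg) := by
  have h1 := eigen_sq_le g hg.prime.pos hg.pow_eq hc rfl rfl
  have h2 := commutant_bound h hg
  have hd := Submodule.finrank_le (Module.End.eigenspace g c)
  set d := finrank K (Module.End.eigenspace g c)
  set n := finrank K V
  set C := finrank K (commutant g)
  set f := Nat.card (fixedGroup h hg)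
  obtain ⟨w, rfl⟩ : ∃ w, ϖ = w + 1 := ⟨ϖ - 1, by have := hg.prime.pos; omega⟩
  obtain ⟨e, he⟩ : ∃ e, n = d + e := ⟨n - d, by omega⟩
  rw [Nat.add_sub_cancel] at h1 h2
  rw [he, Nat.add_sub_cancel_left] at h1
  rw [he] at h2 ⊢
  have h3 := Nat.mul_le_mul_left w h2
  have h4 := Nat.mul_le_mul_left (w + 1) h1
  push_cast
  nlinarith

end Cfsg.Agent.Lib.ExtEigen
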