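import Mathlib

/-!
Absolutely irreducible extraspecial groups of endomorphisms: representatives of the central quotient form a basis.
-/

set_option autoImplicit false
set_option linter.unusedSectionVars false
set_option linter.style.haveILetI false

namespace Cfsg.Agent.Lib.ExtEigen

open Module
open scoped commutatorElement

variable {K V : Type*} [Field K] [AddCommGroup V] [Module K V] [FiniteDimensional K V]
variable {G : Type*} [Group G] [Finite G] {r : ℕ} {ρ : G →* Module.End K V}

/-- A faithful spanning image of an `r`-group with scalar centre, commutators and `r`-th powers. -/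
structure Data (r : ℕ) (ρ : G →* Module.End K V) : Prop where
  prime : r.Prime
  pgroup : IsPGroup r G
  inj : Function.Injective ρ
  nontrivial : Nontrivial V
  span : Submodule.span K (Set.range ρ) = ⊤
  scalar : ∀ x, x ∈ Subgroup.center G ↔ ∃ a : K, ρ x = a • 1
  pow_mem : ∀ x, x ^ r ∈ Subgroup.center G
  comm_mem : ∀ x y : G, ⁅x, y⁆ ∈ Subgroup.center G

local notation "Quo" => G ⧸ Subgroup.center G

/-- The representative of a central coset. -/
noncomputable def rep (ρ : G →* Module.End K V) (q : Quo) : Module.End K V := ρ (Quotient.out q)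

variable (h : Data r ρ)
include h

theorem isUnit_rho (x : G) : IsUnit (ρ x) := (Group.isUnit x).map ρ

theorem rho_ne_zero (x : G) : ρ x ≠ 0 := by
  haveI := h.nontrivial
  exact (isUnit_rho h x).ne_zero

theorem isUnit_rep (q : Quo) : IsUnit (rep ρ q) := isUnit_rho h _

theorem rep_ne_zero (q : Quo) : rep ρ q ≠ 0 := rho_ne_zero h _

theorem scalar_ne_zero {x : G} {a : K} {M : Module.End K V} (ha : ρ x = a • M) : a ≠ 0 := by
  rintro rfl
  exact rho_ne_zero h x (by rw [ha, zero_smul])

/-- Every element is a multiple of its representative. -/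
theorem exists_smul_rep (x : G) : ∃ a : K, a ≠ 0 ∧ ρ x = a • rep ρ (x : Quo) := by
  have hz : x * (Quotient.out (x : Quo))⁻¹ ∈ Subgroup.center G := by
    rw [← QuotientGroup.eq_one_iff, QuotientGroup.mk_mul, QuotientGroup.mk_inv, QuotientGroup.out_eq',
      mul_inv_cancel]
  obtain ⟨a, ha⟩ := (h.scalar _).mp hz
  refine ⟨a, scalar_ne_zero h ha, ?_⟩
  calc ρ x = ρ (x * (Quotient.out (x : Quo))⁻¹) * ρ (Quotient.out (x : Quo)) := by
        rw [← map_mul, inv_mul_cancel_right]
    _ = a • rep ρ (x : Quo) := by rw [ha, smul_mul_assoc, one_mul]; rfl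

theorem rep_mul (q q' : Quo) : ∃ a : K, a ≠ 0 ∧ rep ρ q * rep ρ q' = a • rep ρ (q * q') := by
  obtain ⟨a, ha, hx⟩ := exists_smul_rep h (Quotient.out q * Quotient.out q')
  refine ⟨a, ha, ?_⟩
  rw [QuotientGroup.mk_mul, QuotientGroup.out_eq', QuotientGroup.out_eq'] at hx
  rw [← hx, map_mul]
  rfl

theorem rep_one : ∃ a : K, a ≠ 0 ∧ rep ρ (1 : Quo) = a • 1 := by
  obtain ⟨a, ha⟩ := (h.scalar _).mp
    ((QuotientGroup.eq_one_iff _).mp (QuotientGroup.out_eq' (1 : Quo)))
  exact ⟨a, scalar_ne_zero h ha, ha⟩

theorem rep_pow_r (q : Quo) : ∃ a : K, a ≠ 0 ∧ rep ρ q ^ r = a • 1 := by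
  obtain ⟨a, ha⟩ := (h.scalar _).mp (h.pow_mem (Quotient.out q))
  exact ⟨a, scalar_ne_zero h ha, by rw [rep, ← map_pow, ha]⟩

theorem quo_mul_comm (q q' : Quo) : q * q' = q' * q := by
  obtain ⟨x, rfl⟩ := QuotientGroup.mk_surjective q
  obtain ⟨y, rfl⟩ := QuotientGroup.mk_surjective q'
  have h1 : ((⁅x, y⁆ : G) : Quo) = 1 := (QuotientGroup.eq_one_iff _).mpr (h.comm_mem x y)
  rw [commutatorElement_def, QuotientGroup.mk_mul, QuotientGroup.mk_mul, QuotientGroup.mk_mul,
    QuotientGroup.mk_inv, QuotientGroup.mk_inv] at h1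
  exact commutatorElement_eq_one_iff_mul_comm.mp h1

theorem quo_pow_r (q : Quo) : q ^ r = 1 := by
  obtain ⟨x, rfl⟩ := QuotientGroup.mk_surjective q
  rw [← QuotientGroup.mk_pow]
  exact (QuotientGroup.eq_one_iff _).mpr (h.pow_mem x)

/-- The commutation factor of two representatives is an `r`-th root of unity. -/
theorem factor (q q' : Quo) : ∃ a : K, a ^ r = 1 ∧ rep ρ q * rep ρ q' = a • (rep ρ q' * rep ρ q) := by
  set x := Quotient.out q
  set y := Quotient.out q'
  obtain ⟨a, ha⟩ := (h.scalar _).mp (h.comm_mem x y)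
  have hxy : ρ x * ρ y = a • (ρ y * ρ x) := by
    rw [← map_mul, ← map_mul, show x * y = ⁅x, y⁆ * (y * x) by rw [commutatorElement_def]; group, map_mul, ha,
      smul_mul_assoc, one_mul]
  have hk : ∀ k : ℕ, ρ (x ^ k) * ρ y = a ^ k • (ρ y * ρ (x ^ k)) := by
    intro k
    induction k with
    | zero => simp
    | succ k ih =>
      rw [pow_succ, map_mul, mul_assoc, hxy, mul_smul_comm, ← mul_assoc, ih, smul_mul_assoc, smul_smul,
        mul_assoc, pow_succ']
  refine ⟨a, ?_, hxy⟩
  have h1 := hk r
  rw [← map_mul, Subgroup.mem_center_iff.mp (h.pow_mem x) y |>.symm, map_mul] at h1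
  nth_rw 1 [← one_smul K (ρ y * ρ (x ^ r))] at h1
  refine (smul_left_injective K ?_ h1).symm
  rw [← map_mul]
  exact rho_ne_zero h _

theorem commute_all_iff (q : Quo) : (∀ q', Commute (rep ρ q) (rep ρ q')) ↔ q = 1 := by
  constructor
  · intro hq
    rw [← QuotientGroup.out_eq' q, QuotientGroup.eq_one_iff, Subgroup.mem_center_iff]
    intro y
    obtain ⟨a, -, ha⟩ := exists_smul_rep h y
    apply h.inj
    rw [map_mul, map_mul, ha, smul_mul_assoc, mul_smul_comm]
    exact congrArg (a • ·) (hq _).symm.eq
  · rintro rfl q'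
    obtain ⟨a, -, ha⟩ := rep_one h
    rw [ha]
    exact (Commute.one_left _).smul_left a

theorem exists_not_commute {q : Quo} (hq : q ≠ 1) : ∃ q', ¬ Commute (rep ρ q) (rep ρ q') := by
  by_contra! hc
  exact hq ((commute_all_iff h q).mp hc)

/-- The elements commuting with the representative of `q`. -/
theorem commute_rep_mul {q a b : Quo} (ha : Commute (rep ρ q) (rep ρ a)) (hb : Commute (rep ρ q) (rep ρ b)) :
    Commute (rep ρ q) (rep ρ (a * b)) := by
  obtain ⟨c, hc, hab⟩ := rep_mul h a b
  have := (ha.mul_right hb).smul_right c⁻¹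
  rwa [hab, smul_smul, inv_mul_cancel₀ hc, one_smul] at this

/-- The centraliser of `q` in the central quotient. -/
noncomputable def cent (q : Quo) : Subgroup Quo :=
  { carrier := {a | Commute (rep ρ q) (rep ρ a)}
    one_mem' := ((commute_all_iff h 1).mpr rfl q).symm
    mul_mem' := commute_rep_mul h
    inv_mem' := fun {a} ha => by
      have hpow : ∀ k : ℕ, Commute (rep ρ q) (rep ρ (a ^ k)) := by
        intro k
        induction k with
        | zero => rw [pow_zero]; exact ((commute_all_iff h 1).mpr rfl q).symm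
        | succ k ih => rw [pow_succ]; exact commute_rep_mul h ih ha
      have h1 : a⁻¹ = a ^ (r - 1) := inv_eq_of_mul_eq_one_right (by
        rw [← pow_succ', Nat.sub_add_cancel h.prime.pos, quo_pow_r h])
      show Commute _ _
      rw [h1]; exact hpow _ }

theorem mem_cent {q a : Quo} : a ∈ cent h q ↔ Commute (rep ρ q) (rep ρ a) := Iff.rfl

theorem cent_eq_top_iff (q : Quo) : cent h q = ⊤ ↔ q = 1 := by
  rw [← commute_all_iff h q, Subgroup.eq_top_iff']
  rfl

theorem linearIndependent_rep : LinearIndependent K (rep ρ : Quo → Module.End K V) := by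
  classical
  rw [linearIndependent_iff']
  intro s
  induction s using Finset.strongInduction with
  | H s ih =>
    intro a ha q hq
    by_cases hex : ∃ q' ∈ s, q' ≠ q
    · obtain ⟨q', hq', hne⟩ := hex
      obtain ⟨y, hy⟩ := exists_not_commute h (q := q * q'⁻¹) fun hh => hne (mul_inv_eq_one.mp hh).symm
      choose c hcr hc using fun z => factor h y z
      have hcne : c q ≠ c q' := by
        intro hcc
        obtain ⟨b, hb, hmul⟩ := rep_mul h (q * q'⁻¹) q'
        rw [inv_mul_cancel_right] at hmul
        apply hy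
        have h1 : rep ρ y * (rep ρ (q * q'⁻¹) * rep ρ q') = rep ρ (q * q'⁻¹) * rep ρ y * rep ρ q' := by
          rw [mul_assoc _ (rep ρ y), hc q', hmul, mul_smul_comm, hc q, mul_smul_comm, ← mul_assoc, hmul, hcc,
            smul_mul_assoc, smul_comm]
        rw [← mul_assoc] at h1
        exact ((isUnit_rep h q').mul_left_inj.mp h1).symm
      have hsum : ∑ z ∈ s.erase q', (a z * (c z - c q')) • rep ρ z = 0 := by
        rw [Finset.sum_erase s (by rw [sub_self, mul_zero, zero_smul])]
        have h1 : ∑ z ∈ s, (a z * c z) • (rep ρ z * rep ρ y) = 0 := by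
          have := congrArg (rep ρ y * ·) ha
          simpa [Finset.mul_sum, mul_smul_comm, hc, smul_smul] using this
        have h2 : ∑ z ∈ s, (a z * c z) • rep ρ z = 0 := by
          refine (isUnit_rep h y).mul_left_inj.mp ?_
          rw [zero_mul, Finset.sum_mul]
          simpa [smul_mul_assoc] using h1
        simp only [mul_sub, sub_smul, Finset.sum_sub_distrib, h2, zero_sub, neg_eq_zero]
        rw [show (fun z => (a z * c q') • rep ρ z) = fun z => c q' • a z • rep ρ z from
          funext fun z => by rw [smul_smul, mul_comm], ← Finset.smul_sum, ha, smul_zero]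
      have := ih _ (Finset.erase_ssubset hq') _ hsum q (Finset.mem_erase.mpr ⟨hne.symm, hq⟩)
      exact (mul_eq_zero.mp this).resolve_right (sub_ne_zero.mpr hcne)
    · push Not at hex
      rw [Finset.sum_eq_single q (fun z hz hzq => absurd (hex z hz) hzq) (fun hh => absurd hq hh)] at ha
      exact (smul_eq_zero.mp ha).resolve_right (rep_ne_zero h q)

theorem span_rep : Submodule.span K (Set.range (rep ρ : Quo → Module.End K V)) = ⊤ := by
  rw [eq_top_iff, ← h.span, Submodule.span_le]
  rintro _ ⟨x, rfl⟩
  obtain ⟨a, -, ha⟩ := exists_smul_rep h x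
  rw [ha]
  exact Submodule.smul_mem _ a (Submodule.subset_span ⟨_, rfl⟩)

/-- Every endomorphism is a combination of the representatives. -/
theorem exists_coeff [Fintype Quo] (M : Module.End K V) : ∃ a : Quo → K, ∑ q, a q • rep ρ q = M :=
  (Submodule.mem_span_range_iff_exists_fun K).mp (span_rep h ▸ Submodule.mem_top)

theorem eq_of_smul_rep {a b : K} {q q' : Quo} (ha : a ≠ 0) (he : a • rep ρ q = b • rep ρ q') : q = q' := by
  by_contra hne
  classical
  have h1 := linearIndependent_iff'.mp (linearIndependent_rep h) {q, q'} (fun z => if z = q then a else -b)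
    (by rw [Finset.sum_pair hne, if_pos rfl, if_neg (Ne.symm hne), neg_smul, he, add_neg_cancel]) q
    (Finset.mem_insert_self q _)
  simp only [if_pos] at h1
  exact ha h1

theorem card_quo : Nat.card Quo = finrank K V ^ 2 := by
  classical
  haveI := Fintype.ofFinite Quo
  have h1 := Module.finrank_eq_card_basis (Basis.mk (linearIndependent_rep h) (span_rep h).ge)
  rw [Module.finrank_linearMap, ← sq] at h1
  rw [Nat.card_eq_fintype_card, h1]

/-- Eigenspaces of non-central elements have dimension at most `n / r`. -/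
theorem eigen_le {q : Quo} (hq : q ≠ 1) (μ : K) :
    r * finrank K (Module.End.eigenspace (rep ρ q) μ) ≤ finrank K V := by
  classical
  obtain ⟨y, hy⟩ := exists_not_commute h hq
  obtain ⟨a, har, ha⟩ := factor h q y
  have ha1 : a ≠ 1 := fun hh => hy (by rw [Commute, SemiconjBy, ha, hh, one_smul])
  haveI := Fact.mk h.prime
  have hord : orderOf a = r := orderOf_eq_prime har ha1
  rcases eq_or_ne μ 0 with rfl | hμ
  · have : Module.End.eigenspace (rep ρ q) (0 : K) = ⊥ := by
      rw [Module.End.eigenspace_zero, LinearMap.ker_eq_bot]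
      exact ((Module.End.isUnit_iff _).mp (isUnit_rep h q)).1
    rw [this, finrank_bot, mul_zero]; exact Nat.zero_le _
  set E := fun i : Fin r => Module.End.eigenspace (rep ρ q) (a ^ (i : ℕ) * μ)
  have hle : ∀ k : ℕ, finrank K (Module.End.eigenspace (rep ρ q) μ) ≤
      finrank K (Module.End.eigenspace (rep ρ q) (a ^ k * μ)) := by
    intro k
    induction k with
    | zero => rw [pow_zero, one_mul]
    | succ k ih =>
      refine ih.trans ?_
      have hmap : (Module.End.eigenspace (rep ρ q) (a ^ k * μ)).map (rep ρ y) ≤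
          Module.End.eigenspace (rep ρ q) (a ^ (k + 1) * μ) := by
        rintro _ ⟨v, hv, rfl⟩
        rw [SetLike.mem_coe, Module.End.mem_eigenspace_iff] at hv
        rw [Module.End.mem_eigenspace_iff]
        have h1 := LinearMap.congr_fun ha v
        simp only [Module.End.mul_apply, LinearMap.smul_apply, hv, map_smul, smul_smul] at h1
        rw [h1, pow_succ', mul_assoc]
      refine le_trans (le_of_eq ?_) (Submodule.finrank_mono hmap)
      exact (LinearEquiv.finrank_map_eq (LinearEquiv.ofBijective _ ((Module.End.isUnit_iff _).mp (isUnit_rep h y))) _).symm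
  have hinj : Function.Injective fun i : Fin r => a ^ (i : ℕ) * μ := by
    intro i j hij
    exact Fin.ext (pow_injOn_Iio_orderOf (by simp [hord]) (by simp [hord]) (mul_right_cancel₀ hμ hij))
  have hind : iSupIndep E := (Module.End.eigenspaces_iSupIndep _).comp hinj
  have hsum : ∀ s : Finset (Fin r), ∑ i ∈ s, finrank K (E i) ≤ finrank K (s.sup E : Submodule K V) := by
    intro s
    induction s using Finset.induction with
    | empty => simp
    | insert i s hi ih =>
      rw [Finset.sum_insert hi, Finset.sup_insert]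
      have hd : Disjoint (E i) (s.sup E) := by
        rw [Finset.sup_eq_iSup]
        exact hind.disjoint_biSup (y := (s : Set (Fin r))) hi
      have h1 := Submodule.finrank_sup_add_finrank_inf_eq (E i) (s.sup E)
      rw [hd.eq_bot, finrank_bot, add_zero] at h1
      omega
  calc r * finrank K (Module.End.eigenspace (rep ρ q) μ)
      = ∑ _i : Fin r, finrank K (Module.End.eigenspace (rep ρ q) μ) := by simp
    _ ≤ ∑ i, finrank K (E i) := Finset.sum_le_sum fun i _ => hle i
    _ ≤ finrank K V := (hsum _).trans (Submodule.finrank_le _)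

end Cfsg.Agent.Lib.ExtEigen
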