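import Cfsg.Agent.Lib.ExtEigen.Cases

/-!
The configuration `r = 2`, `ϖ = 3` with centralised index four, and the final bounds.
-/

set_option autoImplicit false
set_option linter.unusedSectionVars false
set_option linter.style.haveILetI false

namespace Cfsg.Agent.Lib.ExtEigen

open Module

variable {K V : Type*} [Field K] [AddCommGroup V] [Module K V] [FiniteDimensional K V]
variable {G : Type*} [Group G] [Finite G] {r ϖ : ℕ} {ρ : G →* Module.End K V} {g : Module.End K V}

local notation "Quo" => G ⧸ Subgroup.center G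

variable (h : Data r ρ) (hg : Normal ϖ ρ g)
include h hg

theorem card_quo_eq : Nat.card (fixedGroup h hg) * (fixedGroup h hg).index = finrank K V ^ 2 := by
  rw [Subgroup.card_mul_index, card_quo h]

/-- `r = 2`, `ϖ = 3`, centralised index four. -/
theorem four_case [IsAlgClosed K] (h2r : r = 2) (h3ϖ : ϖ = 3) (hr0 : (r : K) ≠ 0)
    (hidx : (fixedGroup h hg).index = 4) {c : K} :
    2 * finrank K (Module.End.eigenspace g c) ≤ finrank K V := by
  classical
  haveI := Fintype.ofFinite Quo
  subst h2r
  by_contra hd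
  push Not at hd
  set W := Module.End.eigenspace g c with hW
  set P := fixedGroup h hg with hP
  have hne : ϖ ≠ 2 := by omega
  have hfixP : ∀ q, img h hg q = q → q ∈ P := fun q hq =>
    (mem_fixedGroup_iff h hg).mpr ⟨hq, mult_eq_one h hg hne hq⟩
  obtain ⟨u, hu⟩ : ∃ u, u ∉ P := by
    by_contra! hall
    exact fixedGroup_ne_top h hg (eq_top_iff.mpr fun q _ => hall q)
  set z1 := u⁻¹ * img h hg u with hz1
  have hz1P : z1 ∉ P := by
    intro hzP
    have hk : ∀ k : ℕ, (img h hg)^[k] u = u * z1 ^ k := by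
      intro k
      induction k with
      | zero => simp
      | succ k ih =>
        rw [Function.iterate_succ_apply', ih, img_mul, fixedGroup_img h hg (pow_mem hzP k), pow_succ', ← mul_assoc,
          hz1, mul_inv_cancel_left]
    have h1 : z1 ^ ϖ = 1 := mul_eq_left.mp ((hk ϖ).symm.trans (img_iterate h hg u))
    have h2 : z1 ^ 3 = z1 := by rw [pow_succ, quo_pow_r h, one_mul]
    rw [h3ϖ, h2] at h1
    exact hu (hfixP u (inv_mul_eq_one.mp h1).symm)
  set z2 := img h hg z1 with hz2
  have hcP1 : P ≤ cent h z1 := fun p hp => commute_displacement h hg u hp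
  have hcP2 : P ≤ cent h z2 := by
    intro p hp
    have : img h hg (u⁻¹ * img h hg u) = (img h hg u)⁻¹ * img h hg (img h hg u) := by
      rw [img_mul]
      congr 1
      exact (imgHom h hg).map_inv u
    rw [mem_cent, hz2, hz1, this]
    exact commute_displacement h hg (img h hg u) hp
  have hz2P : z2 ∉ P := fun hh => hz1P (img_injective h hg (fixedGroup_img h hg hh) ▸ hh)
  have hsq : ∀ q : Quo, q⁻¹ = q := fun q => inv_eq_of_mul_eq_one_right (by rw [← sq, quo_pow_r h])
  have hz12 : z1 * z2 ∉ P := by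
    intro hh
    set p := z1 * z2 with hp
    have hpi := fixedGroup_img h hg hh
    have hi1 : img h hg z1 = z1 * p := by
      rw [← hz2, hp, ← mul_assoc, ← sq, quo_pow_r h, one_mul]
    have hk : ∀ k : ℕ, (img h hg)^[k] z1 = z1 * p ^ k := by
      intro k
      induction k with
      | zero => simp
      | succ k ih =>
        rw [Function.iterate_succ_apply', ih, img_mul, fixedGroup_img h hg (pow_mem hh k), hi1, pow_succ',
          mul_assoc]
    have h1 : p ^ ϖ = 1 := mul_eq_left.mp ((hk ϖ).symm.trans (img_iterate h hg z1))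
    rw [h3ϖ, pow_succ, quo_pow_r h, one_mul] at h1
    rw [h1, mul_one] at hi1
    exact hz1P (hfixP z1 hi1)
  haveI : P.Normal := ⟨fun x hx y => by rwa [quo_mul_comm h y x, mul_inv_cancel_right]⟩
  have hcover : ∀ q : Quo, q ∈ P ∨ z1⁻¹ * q ∈ P ∨ z2⁻¹ * q ∈ P ∨ (z1 * z2)⁻¹ * q ∈ P := by
    intro q
    haveI : Fintype (Quo ⧸ P) := Fintype.ofFinite _
    set T : Finset (Quo ⧸ P) := {((1 : Quo) : Quo ⧸ P), (z1 : Quo ⧸ P), (z2 : Quo ⧸ P), ((z1 * z2 : Quo) : Quo ⧸ P)}
      with hT
    have e : ∀ a b : Quo, (a : Quo ⧸ P) = b ↔ a⁻¹ * b ∈ P := fun a b => QuotientGroup.eq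
    have h4 : T.card = 4 := by
      rw [hT, Finset.card_insert_of_notMem, Finset.card_insert_of_notMem, Finset.card_insert_of_notMem,
        Finset.card_singleton]
      · rw [Finset.mem_singleton, e, hsq, ← mul_assoc, mul_comm' h z2 z1]
        intro hh
        exact hz1P (by rwa [mul_assoc, ← sq, quo_pow_r h, mul_one] at hh)
      · simp only [Finset.mem_insert, Finset.mem_singleton, e, hsq, not_or]
        exact ⟨hz12, fun hh => hz2P (by rwa [← mul_assoc, ← sq, quo_pow_r h, one_mul] at hh)⟩
      · simp only [Finset.mem_insert, Finset.mem_singleton, e, hsq, one_mul, not_or]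
        exact ⟨hz1P, hz2P, hz12⟩
    have hTu : T = Finset.univ := by
      refine Finset.eq_univ_of_card T ?_
      rw [h4, ← Nat.card_eq_fintype_card, ← Subgroup.index, hidx]
    have := hTu ▸ Finset.mem_univ (q : Quo ⧸ P)
    simp only [hT, Finset.mem_insert, Finset.mem_singleton] at this
    rcases this with h1 | h1 | h1 | h1 <;> rw [eq_comm, e] at h1
    · exact Or.inl (by simpa using h1)
    · exact Or.inr (Or.inl h1)
    · exact Or.inr (Or.inr (Or.inl h1))
    · exact Or.inr (Or.inr (Or.inr h1))
  have hab : ¬ Commute (rep ρ z1) (rep ρ z2) := by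
    intro hh
    refine hz1P ((mem_fixedGroup h hg).mpr ?_)
    have htop : z1 = 1 := by
      rw [← commute_all_iff h]
      intro q
      have hz1c : z1 ∈ cent h z1 := (mem_cent h).mpr (Commute.refl _)
      have hz2c : z2 ∈ cent h z1 := (mem_cent h).mpr hh
      refine (mem_cent h).mp ?_
      rcases hcover q with h1 | h1 | h1 | h1
      · exact hcP1 h1
      · exact mul_inv_cancel_left z1 q ▸ mul_mem hz1c (hcP1 h1)
      · exact mul_inv_cancel_left z2 q ▸ mul_mem hz2c (hcP1 h1)
      · exact mul_inv_cancel_left (z1 * z2) q ▸ mul_mem (mul_mem hz1c hz2c) (hcP1 h1)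
    rw [htop]
    exact (mem_fixedGroup h hg).mp (one_mem _)
  have hinter : ∀ q, Commute (rep ρ z1) (rep ρ q) → Commute (rep ρ z2) (rep ρ q) → Commute g (rep ρ q) := by
    intro q h1 h2
    refine (mem_fixedGroup h hg).mp ?_
    rcases hcover q with hq | hq | hq | hq
    · exact hq
    · exfalso
      have : z1 ∈ cent h z2 := by
        have h3 := mul_mem ((mem_cent h).mpr h2) (inv_mem (hcP2 hq))
        rwa [mul_inv_rev, inv_inv, ← mul_assoc, mul_inv_cancel, one_mul] at h3
      exact hab ((mem_cent h).mp this).symm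
    · exfalso
      have : z2 ∈ cent h z1 := by
        have h3 := mul_mem ((mem_cent h).mpr h1) (inv_mem (hcP1 hq))
        rwa [mul_inv_rev, inv_inv, ← mul_assoc, mul_inv_cancel, one_mul] at h3
      exact hab ((mem_cent h).mp this)
    · exfalso
      have : z1 * z2 ∈ cent h z1 := by
        have h3 := mul_mem ((mem_cent h).mpr h1) (inv_mem (hcP1 hq))
        rwa [mul_inv_rev, inv_inv, ← mul_assoc, mul_inv_cancel, one_mul] at h3
      have h4 : z2 ∈ cent h z1 :=
        inv_mul_cancel_left z1 z2 ▸ mul_mem (inv_mem ((mem_cent h).mpr (Commute.refl _))) this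
      exact hab ((mem_cent h).mp h4)
  -- the endomorphisms commuting with both
  set b := rep ρ z2 with hb
  have hcomm2 : ∀ ψ : Module.End K V, Commute (rep ρ z1) ψ → Commute b ψ → Commute g ψ := by
    intro ψ h1 h2
    obtain ⟨co, rfl⟩ := exists_coeff h ψ
    have key : ∀ z q : Quo, Commute (rep ρ z) (∑ q, co q • rep ρ q) → ¬ Commute (rep ρ z) (rep ρ q) → co q = 0 := by
      intro z q hψ hq
      choose fc hfc using fun q => factor h z q
      have h3 : ∑ q, (co q * (fc q - 1)) • rep ρ q = 0 := by
        refine (isUnit_rep h z).mul_left_inj.mp ?_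
        rw [zero_mul, Finset.sum_mul]
        have h4 := hψ.eq
        rw [Finset.mul_sum, Finset.sum_mul] at h4
        simp only [mul_smul_comm, smul_mul_assoc, (hfc _).2, smul_smul] at h4
        simp only [mul_sub, mul_one, sub_smul, sub_mul, smul_mul_assoc, Finset.sum_sub_distrib, h4, sub_self]
      have hne : fc q ≠ 1 := fun hh => hq (by rw [Commute, SemiconjBy, (hfc q).2, hh, one_smul])
      exact (mul_eq_zero.mp (Fintype.linearIndependent_iff.mp (linearIndependent_rep h) _ h3 q)).resolve_right
        (sub_ne_zero.mpr hne)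
    refine Commute.sum_right _ _ _ fun q _ => ?_
    by_cases hz : co q = 0
    · rw [hz, zero_smul]; exact Commute.zero_right _
    · exact (hinter q (by by_contra hh; exact hz (key z1 q h1 hh)) (by by_contra hh; exact hz (key z2 q h2 hh))).smul_right _
  obtain ⟨γ, hγ, hpow⟩ := rep_pow_r h z1
  obtain ⟨ν, hν⟩ := IsAlgClosed.exists_pow_nat_eq γ (show 0 < 2 by norm_num)
  have hν0 : ν ≠ 0 := fun hh => hγ (by rw [← hν, hh, zero_pow two_ne_zero])
  set a : Module.End K V := ν⁻¹ • rep ρ z1 with ha
  have ha2 : a * a = 1 := by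
    rw [ha, smul_mul_smul_comm, ← sq (rep ρ z1), hpow, smul_smul, ← hν]
    field_simp
    rw [one_smul]
  have hba : b * a = -(a * b) := by
    obtain ⟨f, hf2, hf⟩ := factor h z2 z1
    have hf1 : f ≠ 1 := fun hh => hab (by rw [Commute, SemiconjBy, hf, hh, one_smul])
    have : f = -1 := (sq_eq_one_iff.mp hf2).resolve_left hf1
    rw [ha, mul_smul_comm, smul_mul_assoc, hb, hf, this, neg_one_smul, smul_neg]
  obtain ⟨β, hβ, hb2⟩ := rep_pow_r h z2
  clear_value a
  rw [← hb] at hb2
  have h20 : (2 : K) ≠ 0 := by exact_mod_cast hr0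
  have hhalf : ∀ s : K, (s = 1 ∨ s = -1) → 2 * finrank K (Module.End.eigenspace a s) ≤ finrank K V := by
    intro s hs
    have hz1ne : z1 ≠ 1 := fun hh => hz1P (hh ▸ one_mem _)
    have h1 := eigen_le h hz1ne (ν * s)
    refine le_trans (Nat.mul_le_mul_left 2 (Submodule.finrank_mono fun v hv => ?_)) h1
    rw [Module.End.mem_eigenspace_iff] at hv ⊢
    rw [← smul_smul, ← hv, ha, LinearMap.smul_apply, smul_smul, mul_inv_cancel₀ hν0, one_smul]
  have hin : ∀ s : K, (s = 1 ∨ s = -1) → Module.End.eigenspace a s ≤ W := by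
    intro s hs
    have hss : s * s = 1 := by rcases hs with rfl | rfl <;> simp
    -- meet
    obtain ⟨w, hw, hw0⟩ : ∃ w ∈ W ⊓ Module.End.eigenspace a s, w ≠ 0 := by
      refine Submodule.exists_mem_ne_zero_of_ne_bot fun hbot => ?_
      have h3 := Submodule.finrank_sup_add_finrank_inf_eq W (Module.End.eigenspace a s)
      rw [hbot, finrank_bot, add_zero] at h3
      have h4 := Submodule.finrank_le (W ⊔ Module.End.eigenspace a s)
      have h5 : finrank K V ≤ finrank K (Module.End.eigenspace a s) + finrank K (Module.End.eigenspace a (-s)) := by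
        have h6 := finrank_le_sum a (W := ⊤) (fun _ _ => Submodule.mem_top) [s, -s]
        have h7 : ([s, -s].map fun t => a - t • 1).prod = 0 := by
          simp only [List.map_cons, List.map_nil, List.prod_cons, List.prod_nil, mul_one]
          simp only [sub_mul, mul_sub, smul_mul_assoc, mul_smul_comm, one_mul, mul_one, ha2]
          match_scalars
          · linear_combination (-1 : K) * hss
          · ring
        rw [h7, LinearMap.ker_zero, inf_top_eq, finrank_top] at h6
        have htopE : ∀ t : K, finrank K (⊤ ⊓ Module.End.eigenspace a t : Submodule K V) =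
            finrank K (Module.End.eigenspace a t) := fun t => by rw [top_inf_eq]
        simpa [htopE] using h6
      have := hhalf (-s) (by rcases hs with rfl | rfl <;> simp)
      omega
    set Ps : Module.End K V := (2 : K)⁻¹ • (1 + s • a) with hPs
    have hPfix : ∀ v ∈ Module.End.eigenspace a s, Ps v = v := by
      intro v hv
      rw [Module.End.mem_eigenspace_iff] at hv
      simp only [hPs, LinearMap.smul_apply, LinearMap.add_apply, Module.End.one_apply, hv, smul_smul, hss]
      rw [one_smul, ← two_smul K v, smul_smul, inv_mul_cancel₀ h20, one_smul]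
    have hPl : a * Ps = s • Ps := by
      rw [hPs, mul_smul_comm, mul_add, mul_one, mul_smul_comm, ha2]
      simp only [smul_add, smul_smul]
      rw [mul_comm s, mul_left_comm, hss, mul_one]
      exact add_comm _ _
    have hPr : Ps * a = s • Ps := by
      rw [hPs, smul_mul_assoc, add_mul, one_mul, smul_mul_assoc, ha2]
      simp only [smul_add, smul_smul]
      rw [mul_comm s, mul_left_comm, hss, mul_one]
      exact add_comm _ _
    intro v hv
    obtain ⟨φ, hφ⟩ : ∃ φ : V →ₗ[K] K, φ w = 1 := by
      obtain ⟨φ, hφ⟩ := Module.Projective.exists_dual_ne_zero K hw0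
      exact ⟨(φ w)⁻¹ • φ, by simp [inv_mul_cancel₀ hφ]⟩
    set ψ0 : Module.End K V := Ps * φ.smulRight v * Ps with hψ0
    set ψ : Module.End K V := ψ0 + β⁻¹ • (b * ψ0 * b) with hψ
    have e1 : a * ψ0 = s • ψ0 := by rw [hψ0, ← mul_assoc, ← mul_assoc, hPl, smul_mul_assoc, smul_mul_assoc]
    have e2 : ψ0 * a = s • ψ0 := by rw [hψ0, mul_assoc _ Ps a, hPr, mul_smul_comm]
    have hab' : a * b = -(b * a) := by rw [hba, neg_neg]
    have ea : Commute a ψ := by
      rw [Commute, SemiconjBy, hψ, mul_add, add_mul, e1, e2, mul_smul_comm, smul_mul_assoc]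
      congr 2
      rw [← mul_assoc, ← mul_assoc, hab', neg_mul, neg_mul, mul_assoc b a, e1, mul_assoc (b * ψ0) b a, hba,
        mul_neg, ← mul_assoc, mul_assoc b ψ0 a, e2]
    have eb2 : b * b = β • 1 := by rw [← sq]; exact hb2
    have eb : Commute b ψ := by
      rw [Commute, SemiconjBy, hψ, mul_add, add_mul, mul_smul_comm, smul_mul_assoc]
      rw [show b * (b * ψ0 * b) = β • (ψ0 * b) by rw [← mul_assoc, ← mul_assoc, eb2, smul_mul_assoc, one_mul, smul_mul_assoc],
        show b * ψ0 * b * b = β • (b * ψ0) by rw [mul_assoc (b * ψ0), eb2, mul_smul_comm, mul_one]]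
      rw [smul_smul, smul_smul, inv_mul_cancel₀ hβ, one_smul, one_smul, add_comm]
    have hg' : Commute g ψ := hcomm2 ψ (by
      have : rep ρ z1 = ν • a := by rw [ha, smul_smul, mul_inv_cancel₀ hν0, one_smul]
      rw [this]; exact ea.smul_left ν) eb
    have hwE : a w = s • w := Module.End.mem_eigenspace_iff.mp hw.2
    have hbw : Ps (b w) = 0 := by
      have h3 : a (b w) = -(s • b w) := by
        have := LinearMap.congr_fun hab' w
        rw [Module.End.mul_apply, LinearMap.neg_apply, Module.End.mul_apply, hwE, map_smul] at this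
        exact this
      simp only [hPs, LinearMap.smul_apply, LinearMap.add_apply, Module.End.one_apply, h3, smul_neg, smul_smul, hss,
        one_smul, add_neg_cancel, smul_zero]
    have hψw : ψ w = v := by
      have e3 : ψ0 w = v := by simp [hψ0, hPfix w hw.2, hPfix v hv, hφ]
      have e4 : ψ0 (b w) = 0 := by simp [hψ0, hbw]
      simp [hψ, e3, e4]
    have h8 : g (ψ w) = ψ (g w) := LinearMap.congr_fun hg'.eq w
    rw [Module.End.mem_eigenspace_iff.mp hw.1, map_smul, hψw] at h8
    exact Module.End.mem_eigenspace_iff.mpr h8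
  have htop : W = ⊤ := by
    rw [eq_top_iff]
    intro v _
    have h1 : (2 : K)⁻¹ • (v + a v) ∈ Module.End.eigenspace a 1 := by
      rw [Module.End.mem_eigenspace_iff, one_smul, map_smul, map_add, ← Module.End.mul_apply a a, ha2,
        Module.End.one_apply, add_comm]
    have h2 : (2 : K)⁻¹ • (v - a v) ∈ Module.End.eigenspace a (-1) := by
      rw [Module.End.mem_eigenspace_iff, map_smul, map_sub, ← Module.End.mul_apply a a, ha2, Module.End.one_apply,
        neg_one_smul, ← smul_neg, neg_sub]
    have h3 := add_mem (hin 1 (Or.inl rfl) h1) (hin (-1) (Or.inr rfl) h2)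
    rwa [← smul_add, show v + a v + (v - a v) = (2 : K) • v by rw [two_smul]; abel, smul_smul,
      inv_mul_cancel₀ h20, one_smul] at h3
  obtain ⟨x, hx⟩ := hg.moves
  refine hx ?_
  have hgc : g = c • 1 := by
    refine LinearMap.ext fun v => ?_
    have : v ∈ W := htop ▸ Submodule.mem_top
    simpa using Module.End.mem_eigenspace_iff.mp this
  rw [hgc]
  exact (Commute.one_left _).smul_left c
where
  mul_comm' {G : Type _} [Group G] {r : ℕ} {K V : Type _} [Field K] [AddCommGroup V] [Module K V]
      [FiniteDimensional K V] [Finite G] {ρ : G →* Module.End K V} (h : Data r ρ) (a b : G ⧸ Subgroup.center G) :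
      a * b = b * a := quo_mul_comm h a b

set_option maxHeartbeats 1600000 in
/-- The bounds. -/
theorem bounds [IsAlgClosed K] (hr0 : (r : K) ≠ 0) {c : K}
    (hW : Module.End.eigenspace g c ≠ ⊥) :
    (ϖ = 2 → 4 * finrank K (Module.End.eigenspace g c) ≤ 3 * finrank K V) ∧
    (ϖ = 3 → 3 * finrank K (Module.End.eigenspace g c) ≤ 2 * finrank K V) ∧
    (3 < ϖ → 2 * finrank K (Module.End.eigenspace g c) ≤ finrank K V) ∧
    (ϖ = 3 → ¬ 3 ∣ finrank K V → 2 * finrank K (Module.End.eigenspace g c) ≤ finrank K V) := by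
  classical
  haveI := h.nontrivial
  haveI := Fintype.ofFinite Quo
  have hcϖ : c ^ ϖ = 1 := by
    obtain ⟨w, hw, hw0⟩ := Submodule.exists_mem_ne_zero_of_ne_bot hW
    have hk : ∀ k : ℕ, (g ^ k) w = c ^ k • w := by
      intro k
      induction k with
      | zero => simp
      | succ k ih =>
        rw [pow_succ', Module.End.mul_apply, ih, map_smul, Module.End.mem_eigenspace_iff.mp hw, smul_smul, pow_succ]
    have h1 := hk ϖ
    rw [hg.pow_eq, Module.End.one_apply] at h1
    exact (smul_left_injective K hw0 (show (1 : K) • w = c ^ ϖ • w by rw [one_smul]; exact h1)).symm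
  have hc0 : c ≠ 0 := fun hh => by rw [hh, zero_pow hg.prime.ne_zero] at hcϖ; exact zero_ne_one hcϖ
  obtain ⟨q₀, hq₀⟩ : ∃ q, q ∉ fixedGroup h hg := by
    by_contra! hall
    exact fixedGroup_ne_top h hg (eq_top_iff.mpr fun q _ => hall q)
  obtain ⟨hgen, hgen2⟩ := general_bound h hg hq₀ hc0
  have hest := eigen_estimate h hg hcϖ
  set d := finrank K (Module.End.eigenspace g c) with hd
  set n := finrank K V with hn
  set P := fixedGroup h hg with hP
  set f := Nat.card P with hf
  have hfJ : f * P.index = n ^ 2 := card_quo_eq h hg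
  have hdn : d ≤ n := Submodule.finrank_le _
  have hnpos : 0 < n := Module.finrank_pos
  haveI := Fact.mk h.prime
  obtain ⟨j, hj⟩ := (h.pgroup.to_quotient (Subgroup.center G)).index P
  have hj0 : 1 ≤ j := by
    rcases Nat.eq_zero_or_pos j with rfl | hh
    · exact absurd (Subgroup.index_eq_one.mp (by rwa [pow_zero] at hj)) (fixedGroup_ne_top h hg)
    · exact hh
  have h2r := h.prime.two_le
  -- facts on the index
  have hne_index : ϖ ≠ r → P.index ≠ r := by
    intro hne hidx
    refine hne (index_prime h hg hidx (u := q₀) fun hh => hq₀ ?_).2.2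
    exact (mem_fixedGroup_iff h hg).mpr ⟨hh, mult_eq_one h hg hne hh⟩
  have hJr2 : ϖ ≠ r → r ^ 2 ≤ P.index := by
    intro hne
    rw [hj]
    refine Nat.pow_le_pow_right h.prime.pos ?_
    by_contra hh
    exact hne_index hne (by rw [hj, show j = 1 by omega, pow_one])
  have hfree : ϖ ≠ r → P.index ≡ 1 [MOD ϖ] := by
    intro hne
    haveI := Fact.mk hg.prime
    let F : Function.End Quo := img h hg
    have hF : ∀ k : ℕ, ∀ q, (F ^ k) q = (img h hg)^[k] q := by
      intro k
      induction k with
      | zero => intro q; rfl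
      | succ k ih => intro q; rw [pow_succ', Function.iterate_succ_apply', ← ih]; rfl
    have hF1 : F ^ ϖ ^ 1 = 1 := by
      rw [pow_one]
      funext q
      rw [hF]; exact img_iterate h hg q
    have h1 := Equiv.Perm.card_fixedPoints_modEq (p := ϖ) (n := 1) hF1
    have h2 : Fintype.card F.fixedPoints = f := by
      rw [hf, ← Nat.card_eq_fintype_card]
      refine Nat.card_congr (Equiv.subtypeEquivRight fun q => ?_)
      exact ⟨fun hq => (mem_fixedGroup_iff h hg).mpr ⟨hq, mult_eq_one h hg hne hq⟩, fun hq => fixedGroup_img h hg hq⟩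
    rw [h2, ← Nat.card_eq_fintype_card, card_quo h, ← hn, ← hfJ] at h1
    have hcop : Nat.Coprime ϖ f := by
      rw [hg.prime.coprime_iff_not_dvd]
      intro hdvd
      have hP2 : IsPGroup r P := (h.pgroup.to_quotient _).to_subgroup P
      obtain ⟨k, hk⟩ := IsPGroup.iff_card.mp hP2
      rw [hf, hk] at hdvd
      exact hne ((Nat.prime_dvd_prime_iff_eq hg.prime h.prime).mp (hg.prime.dvd_of_dvd_pow hdvd))
    exact Nat.ModEq.cancel_left_of_coprime hcop (by rwa [mul_one])
  have hfpos : 0 < f := Nat.card_pos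
  -- from the estimate
  have hcount : ∀ J : ℕ, J ≤ P.index → 4 * (ϖ - 1) ^ 2 ≤ (ϖ - 2) ^ 2 * J → 2 * d ≤ n := by
    intro J hJ hcond
    by_contra hlt
    push Not at hlt
    obtain ⟨w, hw⟩ : ∃ w, ϖ = w + 2 := ⟨ϖ - 2, by have := hg.prime.two_le; omega⟩
    have e1 : ϖ - 1 = w + 1 := by omega
    rw [e1, show ϖ - 2 = w by omega] at hcond
    have h3 := Nat.mul_le_mul_left (w ^ 2) (Nat.mul_le_mul_left f hJ)
    rw [hfJ] at h3
    have h4 : (w : ℤ) ^ 2 * ((f : ℤ) * J) ≤ (w : ℤ) ^ 2 * (n : ℤ) ^ 2 := by exact_mod_cast h3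
    have h5 : (4 : ℤ) * ((w : ℤ) + 1) ^ 2 ≤ (w : ℤ) ^ 2 * J := by exact_mod_cast hcond
    rw [hw] at hest
    push_cast at hest
    have h6 : (w : ℤ) * n < 2 * (((w : ℤ) + 2) * d - n) := by
      have : (n : ℤ) < 2 * d := by exact_mod_cast hlt
      nlinarith
    have h7 := mul_le_mul_of_nonneg_right h5 (Int.natCast_nonneg f)
    have h8 : (0 : ℤ) ≤ (w : ℤ) * n := by positivity
    have h9 := mul_self_lt_mul_self h8 h6
    have h10 : ((w : ℤ) + 2 - 1) ^ 2 = ((w : ℤ) + 1) ^ 2 := by ring
    rw [h10] at hest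
    nlinarith
  have h3case : ϖ = 3 → r ≠ 3 → 3 * d ≤ 2 * n := by
    intro h3 hr3
    have hJ4 : 4 ≤ P.index := le_trans (by nlinarith) (hJr2 (by omega))
    by_contra hlt
    push Not at hlt
    have h1 := Nat.mul_le_mul_left f hJ4
    rw [hfJ] at h1
    have h2 : (f : ℤ) * 4 ≤ (n : ℤ) ^ 2 := by exact_mod_cast h1
    rw [h3] at hest
    push_cast at hest
    have h4 : (2 : ℤ) * n < 3 * d := by exact_mod_cast hlt
    nlinarith
  refine ⟨fun _ => ?_, fun h3 => ?_, fun h3 => ?_, fun h3 hn3 => ?_⟩
  · have : 2 * (2 * d - n) ≤ n := (Nat.mul_le_mul_right _ h2r).trans hgen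
    omega
  · by_cases hr3 : r = 3
    · rw [hr3] at hgen; omega
    · exact h3case h3 hr3
  · have hϖ5 : 5 ≤ ϖ := by
      have : ϖ ≠ 4 := fun hh => by rw [hh] at hg; exact absurd hg.prime (by norm_num)
      omega
    have hcond : ∀ J : ℕ, 8 ≤ J → 4 * (ϖ - 1) ^ 2 ≤ (ϖ - 2) ^ 2 * J := by
      intro J hJ
      obtain ⟨w, rfl⟩ : ∃ w, ϖ = w + 5 := ⟨ϖ - 5, by omega⟩
      rw [show w + 5 - 1 = w + 4 by omega, show w + 5 - 2 = w + 3 by omega]
      exact le_trans (by nlinarith) (Nat.mul_le_mul_left _ hJ)
    by_cases hne : ϖ = r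
    · subst hne
      by_cases hj2 : 2 ≤ j
      · refine hcount (ϖ ^ 2) (hj ▸ Nat.pow_le_pow_right h.prime.pos hj2) (hcond _ ?_)
        nlinarith
      · have hidx : P.index = ϖ := by rw [hj, show j = 1 by omega, pow_one]
        by_cases h7 : 7 ≤ ϖ
        · refine hcount ϖ hidx.ge ?_
          obtain ⟨w, rfl⟩ : ∃ w, ϖ = w + 7 := ⟨ϖ - 7, by omega⟩
          rw [show w + 7 - 1 = w + 6 by omega, show w + 7 - 2 = w + 5 by omega]
          nlinarith
        · have h5 : ϖ = 5 := by
            have : ϖ ≠ 6 := fun hh => by rw [hh] at hg; exact absurd hg.prime (by norm_num)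
            omega
          by_cases hu : img h hg q₀ = q₀
          · exact hgen2 hu
          · by_contra hlt
            push Not at hlt
            have h1 := hyperplane_case h hg hϖ5 hr0 hidx hu hlt
            rw [← hn, ← hd, h5] at h1
            rw [hidx, h5] at hfJ
            rw [h5] at hest
            push_cast at hest
            have h2 : (3 : ℤ) * n ≤ 5 * d := by exact_mod_cast h1
            have h4 : (f : ℤ) * 5 = (n : ℤ) ^ 2 := by exact_mod_cast hfJ
            have h8 : (0 : ℤ) < n := by exact_mod_cast hnpos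
            nlinarith
    · by_cases hr2 : r = 2
      · refine hcount P.index le_rfl (hcond _ ?_)
        have hfree' := hne
        have h1 := hfree hne
        rw [hj, hr2] at h1 ⊢
        by_contra hlt
        have hj2 : j ≤ 2 := by
          by_contra hh
          exact hlt (le_trans (by norm_num) (Nat.pow_le_pow_right (by norm_num : 0 < 2) (by omega : 3 ≤ j)))
        interval_cases j <;>
        · rw [Nat.ModEq] at h1
          rw [Nat.mod_eq_of_lt (by omega), Nat.mod_eq_of_lt (by omega)] at h1
          omega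
      · refine hcount (r ^ 2) (hJr2 hne) (hcond _ ?_)
        have : 3 ≤ r := by omega
        nlinarith
  · have hr3 : r ≠ 3 := by
      intro hr3
      obtain ⟨k, hk⟩ := IsPGroup.iff_card.mp (h.pgroup.to_quotient (Subgroup.center G))
      rw [card_quo h, ← hn, hr3] at hk
      rcases Nat.eq_zero_or_pos k with rfl | hk0
      · have : P.index ∣ n ^ 2 := ⟨f, by rw [mul_comm, hfJ]⟩
        rw [hk, pow_zero, Nat.dvd_one] at this
        exact fixedGroup_ne_top h hg (Subgroup.index_eq_one.mp this)
      · exact hn3 (Nat.prime_three.dvd_of_dvd_pow (n := 2) (hk ▸ dvd_pow_self 3 hk0.ne'))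
    have hne : ϖ ≠ r := by omega
    by_cases hr2 : r = 2
    · by_cases hj4 : 4 ≤ j
      · refine hcount P.index le_rfl ?_
        rw [h3, hj, hr2]
        exact le_trans (by norm_num) (Nat.mul_le_mul_left _ (Nat.pow_le_pow_right (by norm_num : 0 < 2) hj4))
      · have h1 := hfree hne
        rw [hj, hr2, h3, Nat.ModEq] at h1
        have hj2 : j = 2 := by
          have hj' : j = 1 ∨ j = 2 ∨ j = 3 := by omega
          rcases hj' with rfl | rfl | rfl
          · norm_num at h1
          · rfl
          · norm_num at h1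
        refine four_case h hg hr2 h3 hr0 ?_
        rw [hj, hr2, hj2]; norm_num
    · refine hcount (r ^ 2) (hJr2 hne) ?_
      rw [h3]
      have : 4 ≤ r := by omega
      nlinarith

end Cfsg.Agent.Lib.ExtEigen
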