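import Cfsg.Agent.Lib.ExtEigen.Action

/-!
The eigenspace bounds: the general bound, the bound from counting, and the two exceptional configurations.
-/

set_option autoImplicit false
set_option linter.unusedSectionVars false
set_option linter.style.haveILetI false

namespace Cfsg.Agent.Lib.ExtEigen

open Module

variable {K V : Type*} [Field K] [AddCommGroup V] [Module K V] [FiniteDimensional K V]
variable {G : Type*} [Group G] [Finite G] {r ϖ : ℕ} {ρ : G →* Module.End K V} {g : Module.End K V}

/-- An eigenspace of `g` meeting an eigenspace `E` of `a` non-trivially contains it, if `g` commutes with the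
centraliser of `a` and `E` has a projection commuting with `a`. -/
theorem eigenspace_le_of_proj {a P : Module.End K V} {μ c : K}
    (hcomm : ∀ ψ : Module.End K V, Commute a ψ → Commute g ψ)
    (hl : a * P = μ • P) (hr : P * a = μ • P) (hfix : ∀ w ∈ Module.End.eigenspace a μ, P w = w)
    {w : V} (hw : w ∈ Module.End.eigenspace a μ) (hwc : w ∈ Module.End.eigenspace g c) (hw0 : w ≠ 0) :
    Module.End.eigenspace a μ ≤ Module.End.eigenspace g c := by
  intro v hv
  obtain ⟨φ, hφ⟩ := exists_dual_vector_eq_one hw0
  set ψ : Module.End K V := P * φ.smulRight v * P with hψ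
  have hc : Commute a ψ := by
    rw [Commute, SemiconjBy, hψ, ← mul_assoc, ← mul_assoc, hl, mul_assoc _ P a, hr, smul_mul_assoc, smul_mul_assoc,
      mul_smul_comm]
  have h1 : g (ψ w) = ψ (g w) := LinearMap.congr_fun (hcomm ψ hc).eq w
  rw [Module.End.mem_eigenspace_iff] at hwc ⊢
  have hψw : ψ w = v := by
    simp [hψ, hfix w hw, hfix v hv, hφ]
  rw [hwc, map_smul, hψw] at h1
  exact h1
where
  exists_dual_vector_eq_one {w : V} (hw0 : w ≠ 0) : ∃ φ : V →ₗ[K] K, φ w = 1 := by
    obtain ⟨φ, hφ⟩ := Module.Projective.exists_dual_ne_zero K hw0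
    exact ⟨(φ w)⁻¹ • φ, by simp [inv_mul_cancel₀ hφ]⟩

/-- The dimension of a kernel of a product is at most the sum over the factors. -/
theorem finrank_ker_mul_le (A B : Module.End K V) (W : Submodule K V) (hB : ∀ w ∈ W, B w ∈ W) :
    finrank K (W ⊓ LinearMap.ker (A * B) : Submodule K V) ≤
      finrank K (W ⊓ LinearMap.ker A : Submodule K V) + finrank K (W ⊓ LinearMap.ker B : Submodule K V) := by
  let U : Submodule K V := W ⊓ LinearMap.ker (A * B)
  let f : U →ₗ[K] (W ⊓ LinearMap.ker A : Submodule K V) :=
    LinearMap.codRestrict _ (B.comp U.subtype) fun u => ⟨hB _ u.2.1, by simpa using u.2.2⟩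
  have h1 := LinearMap.finrank_range_add_finrank_ker f
  have h2 : finrank K (LinearMap.range f) ≤ finrank K (W ⊓ LinearMap.ker A : Submodule K V) := Submodule.finrank_le _
  have h3 : finrank K (LinearMap.ker f) ≤ finrank K (W ⊓ LinearMap.ker B : Submodule K V) := by
    refine LinearMap.finrank_le_finrank_of_injective
      (f := LinearMap.codRestrict _ (U.subtype.comp (LinearMap.ker f).subtype) fun u =>
        ⟨u.1.2.1, LinearMap.mem_ker.mpr (congrArg Subtype.val (LinearMap.mem_ker.mp u.2))⟩) ?_
    intro a b hab
    have := congrArg Subtype.val hab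
    exact Subtype.ext (Subtype.ext this)
  show finrank K U ≤ _
  omega

/-- An invariant subspace killed by a product of linear factors in `a`. -/
theorem finrank_le_sum (a : Module.End K V) {W : Submodule K V} (ha : ∀ w ∈ W, a w ∈ W) :
    ∀ L : List K, finrank K (W ⊓ LinearMap.ker (L.map fun μ => a - μ • 1).prod : Submodule K V) ≤
      (L.map fun μ => finrank K (W ⊓ Module.End.eigenspace a μ : Submodule K V)).sum := by
  intro L
  induction L with
  | nil =>
    have : (W ⊓ LinearMap.ker (1 : Module.End K V) : Submodule K V) = ⊥ := by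
      rw [eq_bot_iff]; exact fun v hv => by simpa using hv.2
    simp [this]
  | cons μ L ih =>
    rw [List.map_cons, List.prod_cons, List.map_cons, List.sum_cons]
    refine le_trans (finrank_ker_mul_le _ _ W ?_) (Nat.add_le_add (le_of_eq (by rw [Module.End.eigenspace_def])) ih)
    clear ih
    induction L with
    | nil => simp
    | cons ν L ih2 =>
      intro w hw
      rw [List.map_cons, List.prod_cons, Module.End.mul_apply, LinearMap.sub_apply]
      exact sub_mem (ha _ (ih2 w hw)) (W.smul_mem ν (ih2 w hw))

local notation "Quo" => G ⧸ Subgroup.center G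

variable (h : Data r ρ) (hg : Normal ϖ ρ g)
include h hg

theorem not_commute_of_notMem {q : Quo} (hq : q ∉ fixedGroup h hg) : ¬ Commute g (rep ρ q) := hq

/-- The general bound. -/
theorem general_bound {q : Quo} (hq : q ∉ fixedGroup h hg) {c : K} (hc : c ≠ 0) :
    r * (2 * finrank K (Module.End.eigenspace g c) - finrank K V) ≤ finrank K V ∧
      (img h hg q = q → 2 * finrank K (Module.End.eigenspace g c) ≤ finrank K V) := by
  set W := Module.End.eigenspace g c with hW
  set U : Submodule K V := W ⊓ W.comap (rep ρ q) with hU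
  have hdim : 2 * finrank K W - finrank K V ≤ finrank K U := by
    have h1 : finrank K (W.comap (rep ρ q)) = finrank K W := by
      let e := LinearEquiv.ofBijective (rep ρ q) ((Module.End.isUnit_iff _).mp (isUnit_rep h q))
      have h2 : W.comap (rep ρ q) = W.map (e.symm : V →ₗ[K] V) := Submodule.comap_equiv_eq_map_symm e W
      rw [h2, LinearEquiv.finrank_map_eq]
    have h2 := Submodule.finrank_sup_add_finrank_inf_eq W (W.comap (rep ρ q))
    have h3 := Submodule.finrank_le (W ⊔ W.comap (rep ρ q))
    rw [← hU] at h2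
    omega
  set m := mult h hg q
  have hm := mult_ne_zero h hg q
  have hUeq : ∀ w ∈ U, m • rep ρ (img h hg q) w = rep ρ q w := by
    rintro w ⟨hw, hw'⟩
    rw [SetLike.mem_coe, hW, Module.End.mem_eigenspace_iff] at hw
    rw [SetLike.mem_coe, Submodule.mem_comap, hW, Module.End.mem_eigenspace_iff] at hw'
    have h1 := LinearMap.congr_fun (conj_rep h hg q) w
    rw [Module.End.mul_apply, Module.End.mul_apply, hw', hw, map_smul, LinearMap.smul_apply] at h1
    exact (smul_right_injective V hc h1).symm
  have hfixcase : img h hg q = q → U = ⊥ := by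
    intro he
    rw [eq_bot_iff]
    intro w hw
    have h1 := hUeq w hw
    rw [he] at h1
    have hm1 : m ≠ 1 := fun hh => hq ((mem_fixedGroup_iff h hg).mpr ⟨he, hh⟩)
    have h2 : (m - 1) • rep ρ q w = 0 := by rw [sub_smul, one_smul, h1, sub_self]
    rw [Submodule.mem_bot]
    exact ((Module.End.isUnit_iff _).mp (isUnit_rep h q)).1
      (((smul_eq_zero.mp h2).resolve_left (sub_ne_zero.mpr hm1)).trans (map_zero _).symm)
  refine ⟨?_, fun he => by rw [hfixcase he, finrank_bot] at hdim; omega⟩
  by_cases he : img h hg q = q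
  · rw [hfixcase he, finrank_bot] at hdim
    rw [Nat.le_zero.mp hdim, mul_zero]
    exact Nat.zero_le _
  · set z : Quo := q⁻¹ * img h hg q with hz
    obtain ⟨b, hb, hmul⟩ := rep_mul h q z
    rw [hz, mul_inv_cancel_left] at hmul
    refine le_trans (Nat.mul_le_mul_left r (hdim.trans (Submodule.finrank_mono (t :=
      Module.End.eigenspace (rep ρ z) (b / m)) fun w hw => ?_))) (eigen_le h ?_ _)
    · rw [Module.End.mem_eigenspace_iff]
      refine ((Module.End.isUnit_iff _).mp (isUnit_rep h q)).1 ?_
      have h1 := LinearMap.congr_fun hmul w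
      rw [Module.End.mul_apply, LinearMap.smul_apply] at h1
      rw [h1, map_smul, ← hUeq w hw, smul_smul, div_mul_cancel₀ b hm]
    · exact fun hh => he (inv_mul_eq_one.mp hh).symm

/-- `u⁻¹ π u` is orthogonal to the centralised elements. -/
theorem commute_displacement (u : Quo) {p : Quo} (hp : p ∈ fixedGroup h hg) :
    Commute (rep ρ (u⁻¹ * img h hg u)) (rep ρ p) := by
  obtain ⟨a, -, ha⟩ := factor h u p
  have h1 : rep ρ (img h hg u) * rep ρ p = a • (rep ρ p * rep ρ (img h hg u)) := by
    have h2 := congrArg (g * ·) ha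
    have hgp := ((mem_fixedGroup h hg).mp hp).eq
    simp only [mul_smul_comm, ← mul_assoc, conj_rep h hg u] at h2
    rw [hgp] at h2
    simp only [mul_assoc, hgp, conj_rep h hg u] at h2
    simp only [← mul_assoc, smul_mul_assoc, mul_smul_comm, smul_smul] at h2
    rw [mul_comm a, ← smul_smul] at h2
    have h3 := smul_right_injective _ (mult_ne_zero h hg u) h2
    rw [← smul_mul_assoc] at h3
    exact (isUnit_g h hg).mul_left_inj.mp h3
  obtain ⟨b, hb, hmul⟩ := rep_mul h u (u⁻¹ * img h hg u)
  rw [mul_inv_cancel_left] at hmul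
  refine (isUnit_rep h u).mul_right_inj.mp ?_
  rw [← mul_assoc, hmul, smul_mul_assoc, h1, ← mul_assoc, ha, smul_mul_assoc, mul_assoc, hmul, mul_smul_comm,
    smul_comm]

theorem fixedGroup_img {p : Quo} (hp : p ∈ fixedGroup h hg) : img h hg p = p := ((mem_fixedGroup_iff h hg).mp hp).1

/-- If the centralised subgroup has index `r` and the fixed points are no more, `ϖ = r`; the displacement is
centralised. -/
theorem index_prime {u : Quo} (hidx : (fixedGroup h hg).index = r) (hu : img h hg u ≠ u) :
    u⁻¹ * img h hg u ∈ fixedGroup h hg ∧ cent h (u⁻¹ * img h hg u) = fixedGroup h hg ∧ ϖ = r := by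
  set z := u⁻¹ * img h hg u with hz
  have hz1 : z ≠ 1 := fun hh => hu (inv_mul_eq_one.mp hh).symm
  have hle : fixedGroup h hg ≤ cent h z := fun p hp => commute_displacement h hg u hp
  have hcent : cent h z = fixedGroup h hg := by
    rcases (Nat.dvd_prime h.prime).mp (hidx ▸ Subgroup.index_dvd_of_le hle) with h1 | h1
    · exact absurd ((cent_eq_top_iff h z).mp (Subgroup.index_eq_one.mp h1)) hz1
    · have h2 := Subgroup.card_mul_index (cent h z)
      rw [h1, ← Subgroup.card_mul_index (fixedGroup h hg), hidx] at h2
      exact (Subgroup.eq_of_le_of_card_ge hle (Nat.eq_of_mul_eq_mul_right h.prime.pos h2).le).symm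
  have hzP : z ∈ fixedGroup h hg := hcent ▸ (mem_cent h).mpr (Commute.refl _)
  refine ⟨hzP, hcent, ?_⟩
  have hk : ∀ k : ℕ, (img h hg)^[k] u = u * z ^ k := by
    intro k
    induction k with
    | zero => simp
    | succ k ih =>
      rw [Function.iterate_succ_apply', ih, img_mul, show img h hg (z ^ k) = z ^ k from
        fixedGroup_img h hg (pow_mem hzP k), pow_succ', ← mul_assoc, hz, mul_inv_cancel_left]
  have h1 : z ^ ϖ = 1 := mul_eq_left.mp ((hk ϖ).symm.trans (img_iterate h hg u))
  haveI := Fact.mk h.prime
  have h2 : orderOf z = r := orderOf_eq_prime (quo_pow_r h z) hz1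
  rw [← h2]
  exact ((Nat.dvd_prime hg.prime).mp (orderOf_dvd_of_pow_eq_one h1) |>.resolve_left
    (by rw [h2]; exact h.prime.one_lt.ne')).symm

/-- `ϖ = r ≥ 5` with a centralised hyperplane. -/
theorem hyperplane_case [IsAlgClosed K] (h5 : 5 ≤ r) (hr0 : (r : K) ≠ 0) (hidx : (fixedGroup h hg).index = r)
    {u : Quo} (hu : img h hg u ≠ u) {c : K} (hd : finrank K V < 2 * finrank K (Module.End.eigenspace g c)) :
    3 * finrank K V ≤ r * finrank K (Module.End.eigenspace g c) := by
  classical
  haveI := Fintype.ofFinite Quo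
  obtain ⟨hzP, hcent, -⟩ := index_prime h hg hidx hu
  set z := u⁻¹ * img h hg u with hz
  have hz1 : z ≠ 1 := fun hh => hu (inv_mul_eq_one.mp hh).symm
  set a := rep ρ z with ha
  have hcomm : ∀ ψ : Module.End K V, Commute a ψ → Commute g ψ := by
    intro ψ hψ
    obtain ⟨co, rfl⟩ := exists_coeff h ψ
    refine Commute.sum_right _ _ _ fun q _ => ?_
    by_cases hq : Commute a (rep ρ q)
    · exact ((mem_fixedGroup h hg).mp (hcent ▸ hq)).smul_right _
    · choose fc hfc using fun q => factor h z q
      have h1 : ∑ q, (co q * (fc q - 1)) • rep ρ q = 0 := by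
        refine (isUnit_rep h z).mul_left_inj.mp ?_
        rw [zero_mul, Finset.sum_mul]
        have h2 := hψ.eq
        rw [Finset.mul_sum, Finset.sum_mul] at h2
        simp only [mul_smul_comm, smul_mul_assoc, ha, (hfc _).2, smul_smul] at h2
        simp only [mul_sub, mul_one, sub_smul, sub_mul, smul_mul_assoc, Finset.sum_sub_distrib, h2, sub_self]
      have h3 := Fintype.linearIndependent_iff.mp (linearIndependent_rep h) _ h1 q
      have hne : fc q ≠ 1 := fun hh => hq (by rw [Commute, SemiconjBy, ha, (hfc q).2, hh, one_smul])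
      rw [(mul_eq_zero.mp h3).resolve_right (sub_ne_zero.mpr hne), zero_smul]
      exact Commute.zero_right _
  obtain ⟨γ, hγ, hpow⟩ := rep_pow_r h z
  obtain ⟨μ₀, hμ₀⟩ := IsAlgClosed.exists_pow_nat_eq γ h.prime.pos
  haveI : NeZero (r : K) := ⟨hr0⟩
  obtain ⟨ζ, hζ⟩ : ∃ ζ : K, IsPrimitiveRoot ζ r := HasEnoughRootsOfUnity.exists_primitiveRoot K r
  set μ : ℕ → K := fun i => ζ ^ i * μ₀ with hμ
  set L := (List.range r).map μ with hL
  have hprod : (L.map fun t => a - t • 1).prod = 0 := by
    have h1 := congrArg (Polynomial.aeval a) (X_pow_sub_C_eq_prod hζ h.prime.pos hμ₀)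
    rw [map_sub, map_pow, Polynomial.aeval_X, Polynomial.aeval_C, ha, hpow, Algebra.algebraMap_eq_smul_one,
      sub_self] at h1
    rw [show (∏ i ∈ Finset.range r, (Polynomial.X - Polynomial.C (ζ ^ i * μ₀))) =
      ((List.range r).map fun i => Polynomial.X - Polynomial.C (ζ ^ i * μ₀)).prod from rfl, map_list_prod] at h1
    simp only [List.map_map, Function.comp_def, map_sub, Polynomial.aeval_X, Polynomial.aeval_C,
      Algebra.algebraMap_eq_smul_one] at h1
    rw [hL, List.map_map, ha]
    exact h1.symm
  have hW : ∀ w ∈ Module.End.eigenspace g c, a w ∈ Module.End.eigenspace g c := by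
    intro w hw
    rw [Module.End.mem_eigenspace_iff] at hw ⊢
    rw [← Module.End.mul_apply, (hcomm a (Commute.refl a)).eq, Module.End.mul_apply, hw, map_smul]
  set W := Module.End.eigenspace g c with hWdef
  set n := finrank K V
  have hE : ∀ t, r * finrank K (Module.End.eigenspace a t) ≤ n := fun t => eigen_le h hz1 t
  -- every eigenspace has dimension exactly n / r
  have hfull : ∀ i < r, r * finrank K (Module.End.eigenspace a (μ i)) = n := by
    have htot := finrank_le_sum a (W := ⊤) (fun _ _ => Submodule.mem_top) L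
    rw [hprod, LinearMap.ker_zero, inf_top_eq, finrank_top, hL, List.map_map] at htot
    have htopE : ∀ t : K, finrank K (⊤ ⊓ Module.End.eigenspace a t : Submodule K V) =
        finrank K (Module.End.eigenspace a t) := fun t => by rw [top_inf_eq]
    simp only [Function.comp_def, htopE] at htot
    intro i hi
    refine le_antisymm (hE _) ?_
    by_contra hlt
    have : ∑ j ∈ Finset.range r, r * finrank K (Module.End.eigenspace a (μ j)) < ∑ _j ∈ Finset.range r, n :=
      Finset.sum_lt_sum (fun j _ => hE _) ⟨i, Finset.mem_range.mpr hi, not_le.mp hlt⟩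
    rw [← Finset.mul_sum, Finset.sum_const, Finset.card_range, smul_eq_mul] at this
    refine absurd (Nat.mul_le_mul_left r htot) (not_le.mpr ?_)
    simpa [Function.comp_def, Finset.sum, Multiset.range, top_inf_eq] using this
  set S := (Finset.range r).filter fun i => (W ⊓ Module.End.eigenspace a (μ i) : Submodule K V) ≠ ⊥ with hS
  have hsub : ∀ i ∈ S, Module.End.eigenspace a (μ i) ≤ W := by
    intro i hi
    rw [hS, Finset.mem_filter, Finset.mem_range] at hi
    obtain ⟨w, hw, hw0⟩ := Submodule.exists_mem_ne_zero_of_ne_bot hi.2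
    set R : List K := ((List.range r).erase i).map μ
    set Q0 := (R.map fun t => a - t • 1).prod with hQ0
    set den := (R.map fun t => μ i - t).prod with hden
    have hperm : (L.map fun t => a - t • 1).Perm ((μ i :: R).map fun t => a - t • 1) :=
      (((List.perm_cons_erase (List.mem_range.mpr hi.1)).map μ)).map _
    have hcom2 : ∀ s t : K, Commute (a - s • 1) (a - t • 1) := fun s t =>
      ((Commute.refl a).sub_right ((Commute.one_right a).smul_right t)).sub_left
        (((Commute.one_left a).smul_left s).sub_right (((Commute.refl (1 : Module.End K V)).smul_left s).smul_right t))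
    have hsplit : (a - μ i • 1) * Q0 = 0 := by
      rw [← hprod, hperm.prod_eq' (List.pairwise_map.mpr (List.pairwise_of_forall fun s t => hcom2 s t)),
        List.map_cons, List.prod_cons]
    have hcQ : Commute (a - μ i • 1) Q0 :=
      Commute.list_prod_right _ _ fun x hx => by
        obtain ⟨t, -, rfl⟩ := List.mem_map.mp hx
        exact hcom2 _ t
    have hden0 : den ≠ 0 := by
      rw [hden]
      refine List.prod_ne_zero fun hmem => ?_
      obtain ⟨t, ht, ht0⟩ := List.mem_map.mp hmem
      obtain ⟨j, hj, rfl⟩ := List.mem_map.mp ht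
      have hj' := (List.nodup_range.mem_erase_iff).mp hj
      have h1 := mul_right_cancel₀ (fun hh => hγ (by rw [← hμ₀, hh, zero_pow h.prime.ne_zero])) (sub_eq_zero.mp ht0)
      exact hj'.1 (hζ.pow_inj (List.mem_range.mp hj'.2) hi.1 h1.symm)
    have hQw : ∀ w ∈ Module.End.eigenspace a (μ i), Q0 w = den • w := by
      intro w hw
      rw [Module.End.mem_eigenspace_iff] at hw
      rw [hQ0, hden]
      generalize R = R'
      induction R' with
      | nil => simp
      | cons t R' ihR =>
        simp only [List.map_cons, List.prod_cons, Module.End.mul_apply, ihR, map_smul, LinearMap.sub_apply,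
          LinearMap.smul_apply, Module.End.one_apply, hw]
        module
    refine eigenspace_le_of_proj (P := den⁻¹ • Q0) hcomm ?_ ?_ (fun v hv => ?_) hw.2 hw.1 hw0
    · rw [mul_smul_comm, smul_comm]
      congr 1
      rw [← sub_eq_zero, ← hsplit, sub_mul, smul_mul_assoc, one_mul]
    · rw [smul_mul_assoc, smul_comm]
      congr 1
      have h1 := hsplit
      rw [hcQ.eq, mul_sub, mul_smul_comm, mul_one, sub_eq_zero] at h1
      exact h1
    · rw [LinearMap.smul_apply, hQw v hv, smul_smul, inv_mul_cancel₀ hden0, one_smul]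
  have hd1 : r * finrank K W ≤ S.card * n := by
    have htot := finrank_le_sum a hW L
    rw [hprod, LinearMap.ker_zero, inf_top_eq, hL, List.map_map] at htot
    have h1 : finrank K W ≤ ∑ i ∈ Finset.range r, finrank K (W ⊓ Module.End.eigenspace a (μ i) : Submodule K V) := by
      simpa [Function.comp_def, Finset.sum, Multiset.range] using htot
    rw [← Finset.sum_filter_of_ne (p := fun i => (W ⊓ Module.End.eigenspace a (μ i) : Submodule K V) ≠ ⊥)
      (fun i _ hne hh => hne (by rw [hh, finrank_bot])), ← hS] at h1
    refine (Nat.mul_le_mul_left r h1).trans ?_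
    rw [Finset.mul_sum]
    refine (Finset.sum_le_card_nsmul S _ n fun i _ => ?_).trans (le_of_eq (smul_eq_mul _ _))
    exact (Nat.mul_le_mul_left r (Submodule.finrank_mono inf_le_right)).trans (hE _)
  have hd2 : ∑ i ∈ S, finrank K (Module.End.eigenspace a (μ i)) ≤ finrank K W := by
    have hinj : Set.InjOn μ S := by
      intro i hi j hj hij
      rw [Finset.mem_coe, hS, Finset.mem_filter, Finset.mem_range] at hi hj
      exact hζ.pow_inj hi.1 hj.1
        (mul_right_cancel₀ (fun hh => hγ (by rw [← hμ₀, hh, zero_pow h.prime.ne_zero])) hij)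
    have hind : iSupIndep fun i : S => Module.End.eigenspace a (μ i) :=
      (Module.End.eigenspaces_iSupIndep a).comp fun i j hij => Subtype.ext (hinj i.2 j.2 hij)
    have hsum : ∀ t : Finset S, ∑ i ∈ t, finrank K (Module.End.eigenspace a (μ i)) ≤
        finrank K (t.sup fun i : S => Module.End.eigenspace a (μ i) : Submodule K V) := by
      intro t
      induction t using Finset.induction with
      | empty => simp
      | insert i t hi ih =>
        rw [Finset.sum_insert hi, Finset.sup_insert]
        have hd' : Disjoint (Module.End.eigenspace a (μ i)) (t.sup fun i : S => Module.End.eigenspace a (μ i)) := by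
          rw [Finset.sup_eq_iSup]
          exact hind.disjoint_biSup (y := (t : Set S)) hi
        have h1 := Submodule.finrank_sup_add_finrank_inf_eq (Module.End.eigenspace a (μ i))
          (t.sup fun i : S => Module.End.eigenspace a (μ i))
        rw [hd'.eq_bot, finrank_bot, add_zero] at h1
        omega
    rw [← Finset.sum_coe_sort S]
    exact (hsum _).trans (Submodule.finrank_mono (Finset.sup_le fun i _ => hsub i i.2))
  have hd3 : r * ∑ i ∈ S, finrank K (Module.End.eigenspace a (μ i)) = S.card * n := by
    rw [Finset.mul_sum, Finset.sum_const_nat fun i hi => hfull i (Finset.mem_range.mp (Finset.filter_subset _ _ hi))]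
  have h4 := Nat.mul_le_mul_left r hd2
  rw [hd3] at h4
  have hS3 : 3 ≤ S.card := by
    by_contra hlt
    have h5' := Nat.mul_le_mul_right n (show S.card ≤ 2 by omega)
    nlinarith
  exact (Nat.mul_le_mul_right n hS3).trans h4

end Cfsg.Agent.Lib.ExtEigen
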